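import Groth.Agent.Popescu.PairNbhd
import Groth.Agent.FormalStalk.Completion
import Groth.Agent.RigPts.ComplEquiv
import Mathlib

/-!
Completed local rings are unchanged by base change to the completion of the base.
-/

set_option autoImplicit false
set_option linter.style.haveILetI false
set_option backward.isDefEq.respectTransparency false

universe u

open IsLocalRing TensorProduct

namespace Groth.Agent.PopDesc

theorem exists_approx_completion {R0 : Type u} [CommRing R0] (𝔰 : Ideal R0) [𝔰.IsPrime] (R : Type u) [CommRing R]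
    [IsLocalRing R] [Algebra R0 R] [IsLocalization.AtPrime R 𝔰] [IsNoetherianRing R]
    (l : AdicCompletion (maximalIdeal R) R) :
    ∃ r s : R0, s ∉ 𝔰 ∧ algebraMap R0 (AdicCompletion (maximalIdeal R) R) s * l - algebraMap R0 _ r ∈
      maximalIdeal (AdicCompletion (maximalIdeal R) R) := by
  obtain ⟨x, hx⟩ := Ideal.Quotient.mk_surjective (AdicCompletion.evalₐ (maximalIdeal R) 1 l)
  obtain ⟨r, s, rfl⟩ := IsLocalization.exists_mk'_eq 𝔰.primeCompl x
  refine ⟨r, s, s.2, ?_⟩
  have h1 : l - algebraMap R (AdicCompletion (maximalIdeal R) R) (IsLocalization.mk' R r s) ∈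
      maximalIdeal (AdicCompletion (maximalIdeal R) R) := by
    rw [AdicCompletion.maximalIdeal_eq_map]
    rw [← pow_one (Ideal.map _ _), ← FormalStalk.ker_evalₐ (maximalIdeal R) (IsNoetherian.noetherian _) 1, RingHom.mem_ker, AlgHom.toRingHom_eq_coe, RingHom.coe_coe, map_sub, FormalStalk.evalₐ_algebraMap,
      hx, sub_self]
  have h3 := Ideal.mul_mem_left _ (algebraMap R0 (AdicCompletion (maximalIdeal R) R) s) h1
  rwa [mul_sub, IsScalarTower.algebraMap_apply R0 R (AdicCompletion (maximalIdeal R) R),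
    ← map_mul (algebraMap R _), IsLocalization.mk'_spec', ← IsScalarTower.algebraMap_apply,
    ← IsScalarTower.algebraMap_apply] at h3

/-- Elements of a tensor product with the completion are, up to a unit and modulo the maximal ideal,
in any subring containing the images of the base and of the other factor. -/
theorem exists_dense {R0 : Type u} [CommRing R0] (𝔰 : Ideal R0) [𝔰.IsPrime] (R : Type u) [CommRing R]
    [IsLocalRing R] [Algebra R0 R] [IsLocalization.AtPrime R 𝔰] [IsNoetherianRing R] {k : Type u} [CommRing k]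
    [Algebra k (AdicCompletion (maximalIdeal R) R)] (P : Type u) [CommRing P] [Algebra k P]
    (S : Subring (AdicCompletion (maximalIdeal R) R ⊗[k] P))
    (hR : ∀ r : R0, algebraMap R0 (AdicCompletion (maximalIdeal R) R) r ⊗ₜ[k] (1 : P) ∈ S)
    (hP : ∀ p : P, (1 : AdicCompletion (maximalIdeal R) R) ⊗ₜ[k] p ∈ S)
    (x : AdicCompletion (maximalIdeal R) R ⊗[k] P) :
    ∃ s : R0, s ∉ 𝔰 ∧ ∃ c ∈ S, (algebraMap R0 (AdicCompletion (maximalIdeal R) R) s ⊗ₜ[k] (1 : P)) * x - c ∈
      (maximalIdeal (AdicCompletion (maximalIdeal R) R)).map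
        (Algebra.TensorProduct.includeLeftRingHom : AdicCompletion (maximalIdeal R) R →+* _) := by
  induction x using TensorProduct.induction_on with
  | zero => exact ⟨1, 𝔰.primeCompl.one_mem, 0, zero_mem _, by simp⟩
  | tmul l p =>
    obtain ⟨r, s, hs, h⟩ := exists_approx_completion 𝔰 R l
    refine ⟨s, hs, _, mul_mem (hR r) (hP p), ?_⟩
    have h1 := Ideal.mul_mem_right ((1 : AdicCompletion (maximalIdeal R) R) ⊗ₜ[k] p) _
      (Ideal.mem_map_of_mem (Algebra.TensorProduct.includeLeftRingHom : AdicCompletion (maximalIdeal R) R →+*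
        AdicCompletion (maximalIdeal R) R ⊗[k] P) h)
    simpa [Algebra.TensorProduct.tmul_mul_tmul, sub_mul, TensorProduct.sub_tmul] using h1
  | add x y hx hy =>
    obtain ⟨s, hs, c, hc, h⟩ := hx
    obtain ⟨t, ht, d, hd, h'⟩ := hy
    refine ⟨s * t, 𝔰.primeCompl.mul_mem hs ht, _,
      add_mem (mul_mem (hR t) hc) (mul_mem (hR s) hd), ?_⟩
    convert add_mem (Ideal.mul_mem_left _ (algebraMap R0 (AdicCompletion (maximalIdeal R) R) t ⊗ₜ[k] (1 : P)) h)
      (Ideal.mul_mem_left _ (algebraMap R0 (AdicCompletion (maximalIdeal R) R) s ⊗ₜ[k] (1 : P)) h') using 1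
    rw [map_mul, show ∀ a b : AdicCompletion (maximalIdeal R) R, (a * b) ⊗ₜ[k] (1 : P) = a ⊗ₜ 1 * b ⊗ₜ 1 from
      fun a b => by rw [Algebra.TensorProduct.tmul_mul_tmul, mul_one]]
    ring

set_option maxHeartbeats 1000000 in
/-- The completion of a local ring of an algebra of finite type is that of its base change to the
completion of the base at the point over the closed point. -/
theorem exists_point_completion {R0 : Type u} [CommRing R0] [IsNoetherianRing R0] (𝔰 : Ideal R0) [𝔰.IsPrime]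
    (R : Type u) [CommRing R] [IsLocalRing R] [Algebra R0 R] [IsLocalization.AtPrime R 𝔰] [IsNoetherianRing R]
    (P : Type u) [CommRing P] [Algebra R0 P] (𝔭 : Ideal P) [𝔭.IsPrime] (h𝔭 : 𝔭.comap (algebraMap R0 P) = 𝔰)
    (O : Type u) [CommRing O] [IsLocalRing O] [Algebra P O] [IsLocalization.AtPrime O 𝔭] [Algebra R0 O]
    [IsScalarTower R0 P O] :
    ∃ (𝔭' : Ideal (AdicCompletion (maximalIdeal R) R ⊗[R0] P)) (_ : 𝔭'.IsPrime),
      𝔭'.comap (Algebra.TensorProduct.includeRight : P →ₐ[R0] AdicCompletion (maximalIdeal R) R ⊗[R0] P).toRingHom = 𝔭 ∧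
      𝔭'.comap (Algebra.TensorProduct.includeLeftRingHom : AdicCompletion (maximalIdeal R) R →+*
        AdicCompletion (maximalIdeal R) R ⊗[R0] P) = maximalIdeal (AdicCompletion (maximalIdeal R) R) ∧
      ∀ (L : Type u) [CommRing L] [IsLocalRing L] [Algebra (AdicCompletion (maximalIdeal R) R ⊗[R0] P) L]
        [IsLocalization.AtPrime L 𝔭'] [Algebra R0 L]
        [IsScalarTower R0 (AdicCompletion (maximalIdeal R) R ⊗[R0] P) L],
        Nonempty (AdicCompletion (maximalIdeal O) O ≃ₐ[R0] AdicCompletion (maximalIdeal L) L) := by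
  have hunit : ∀ s : 𝔰.primeCompl, IsUnit (algebraMap R0 O s) := fun s => by
    rw [IsScalarTower.algebraMap_apply R0 P O]
    exact IsLocalization.map_units O (⟨algebraMap R0 P s, fun h => s.2 (h𝔭.le h)⟩ : 𝔭.primeCompl)
  let ι : R →ₐ[R0] O := IsLocalization.liftAlgHom (M := 𝔰.primeCompl) (f := Algebra.ofId R0 O) hunit
  have hι : (maximalIdeal R).map ι.toRingHom ≤ maximalIdeal O := by
    rw [← IsLocalization.AtPrime.map_eq_maximalIdeal 𝔰 R, Ideal.map_map,
      show ι.toRingHom.comp (algebraMap R0 R) = algebraMap R0 O from ι.comp_algebraMap]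
    refine Ideal.map_le_iff_le_comap.2 fun s hs => ?_
    rw [Ideal.mem_comap, IsScalarTower.algebraMap_apply R0 P O,
      IsLocalization.AtPrime.to_map_mem_maximal_iff O 𝔭]
    exact h𝔭.ge hs
  have hιn : ∀ n, ∀ a ∈ maximalIdeal R ^ n, ((Ideal.Quotient.mkₐ R0 (maximalIdeal O ^ n)).comp ι) a = 0 :=
    fun n a ha => Ideal.Quotient.eq_zero_iff_mem.2 (Ideal.pow_right_mono hι n (by
      rw [← Ideal.map_pow]; exact Ideal.mem_map_of_mem _ ha))
  let ρ : (n : ℕ) → AdicCompletion (maximalIdeal R) R →ₐ[R0] O ⧸ maximalIdeal O ^ n := fun n =>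
    (Ideal.Quotient.liftₐ _ _ (hιn n)).comp ((AdicCompletion.evalₐ (maximalIdeal R) n).restrictScalars R0)
  let ψ : (n : ℕ) → AdicCompletion (maximalIdeal R) R ⊗[R0] P →ₐ[R0] O ⧸ maximalIdeal O ^ n := fun n =>
    Algebra.TensorProduct.lift (ρ n) ((Ideal.Quotient.mkₐ R0 _).comp (IsScalarTower.toAlgHom R0 P O))
      fun _ _ => Commute.all _ _
  have hψr : ∀ n p, ψ n (1 ⊗ₜ p) = Ideal.Quotient.mk _ (algebraMap P O p) := fun n p => by simp [ψ]
  let θ : (n : ℕ) → O ⧸ maximalIdeal O ^ (n + 1) →+* O ⧸ maximalIdeal O := fun n =>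
    Ideal.Quotient.factor (Ideal.pow_le_self n.succ_ne_zero)
  have hθ : ∀ n, IsLocalHom (θ n) := fun n => by
    haveI : Nontrivial (O ⧸ maximalIdeal O ^ (n + 1)) := Ideal.Quotient.nontrivial_iff.2
      (ne_top_of_le_ne_top (maximalIdeal.isMaximal O).ne_top (Ideal.pow_le_self n.succ_ne_zero))
    haveI := IsLocalRing.of_surjective' (Ideal.Quotient.mk (maximalIdeal O ^ (n + 1))) Ideal.Quotient.mk_surjective
    exact IsLocalHom.of_surjective _ (Ideal.Quotient.factor_surjective _)
  let ψκ : AdicCompletion (maximalIdeal R) R ⊗[R0] P →+* O ⧸ maximalIdeal O := (θ 0).comp (ψ 1).toRingHom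
  have hψκ : ∀ n, (θ n).comp (ψ (n + 1)).toRingHom = ψκ := by
    intro n
    refine RingHom.ext fun x => ?_
    induction x using TensorProduct.induction_on with
    | zero => simp
    | add x y hx hy => simp only [map_add, hx, hy]
    | tmul l p =>
      obtain ⟨a, ha⟩ := Ideal.Quotient.mk_surjective (AdicCompletion.evalₐ (maximalIdeal R) (n + 1) l)
      have ha1 : AdicCompletion.evalₐ (maximalIdeal R) 1 l = Ideal.Quotient.mk _ a := by
        rw [← RigPts.evalₐ_compat (maximalIdeal R) (show 1 ≤ n + 1 by omega) l, ← ha]; rfl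
      simp only [ψκ, θ, ψ, ρ, RingHom.comp_apply, AlgHom.toRingHom_eq_coe, RingHom.coe_coe, AlgHom.comp_apply,
        Algebra.TensorProduct.lift_tmul, AlgHom.restrictScalars_apply, ← ha, ha1, map_mul]
      rfl
  let 𝔭' : Ideal (AdicCompletion (maximalIdeal R) R ⊗[R0] P) := RingHom.ker ψκ
  have hright : 𝔭'.comap
      (Algebra.TensorProduct.includeRight : P →ₐ[R0] AdicCompletion (maximalIdeal R) R ⊗[R0] P).toRingHom = 𝔭 := by
    ext p
    simp only [𝔭', Ideal.mem_comap, RingHom.mem_ker, ψκ, RingHom.comp_apply, AlgHom.toRingHom_eq_coe,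
      RingHom.coe_coe, Algebra.TensorProduct.includeRight_apply, hψr, θ, Ideal.Quotient.factor_mk]
    rw [Ideal.Quotient.eq_zero_iff_mem, IsLocalization.AtPrime.to_map_mem_maximal_iff O 𝔭]
  refine ⟨𝔭', RingHom.ker_isPrime ψκ, hright, ?_, fun L _ _ _ _ _ _ => ?_⟩
  · haveI : 𝔭'.IsPrime := RingHom.ker_isPrime ψκ
    refine ((maximalIdeal.isMaximal _).eq_of_le (Ideal.IsPrime.comap _).ne_top ?_).symm
    rw [AdicCompletion.maximalIdeal_eq_map, Ideal.map_le_iff_le_comap]
    intro m hm
    change ψκ (algebraMap R (AdicCompletion (maximalIdeal R) R) m ⊗ₜ 1) = 0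
    have h1 : ι m ∈ maximalIdeal O := hι (Ideal.mem_map_of_mem _ hm)
    simpa [ψκ, θ, ψ, ρ, FormalStalk.evalₐ_algebraMap, Ideal.Quotient.eq_zero_iff_mem] using h1
  haveI : (RingHom.ker ψκ).IsPrime := RingHom.ker_isPrime ψκ
  have hu : ∀ p : 𝔭.primeCompl, IsUnit (((IsScalarTower.toAlgHom R0
      (AdicCompletion (maximalIdeal R) R ⊗[R0] P) L).comp Algebra.TensorProduct.includeRight) p) := fun p =>
    IsLocalization.map_units L (⟨_, fun h => p.2 (hright.le h)⟩ : 𝔭'.primeCompl)
  let f : O →ₐ[R0] L := IsLocalization.liftAlgHom (M := 𝔭.primeCompl) hu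
  have hf : ∀ p, f (algebraMap P O p) = algebraMap _ L ((1 : AdicCompletion (maximalIdeal R) R) ⊗ₜ[R0] p) :=
    fun p => IsLocalization.lift_eq _ p
  have hχ : ∀ n, ∀ x : 𝔭'.primeCompl, IsUnit (ψ (n + 1) x) := fun n x => by
    letI := Ideal.Quotient.field (maximalIdeal O)
    refine (hθ n).map_nonunit _ (Ne.isUnit fun h => x.2 ?_)
    change ψκ x = 0
    rw [← hψκ n]
    exact h
  let χ : (n : ℕ) → L →+* O ⧸ maximalIdeal O ^ (n + 1) := fun n =>
    IsLocalization.lift (M := 𝔭'.primeCompl) (g := (ψ (n + 1)).toRingHom) (hχ n)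
  have hχf : ∀ n o, χ n (f o) = Ideal.Quotient.mk _ o := fun n o =>
    RingHom.congr_fun (IsLocalization.ringHom_ext 𝔭.primeCompl (RingHom.ext fun p => by
      simp only [RingHom.comp_apply, AlgHom.toRingHom_eq_coe, RingHom.coe_coe, hf, χ, IsLocalization.lift_eq]
      exact hψr (n + 1) p) : (χ n).comp f.toRingHom = Ideal.Quotient.mk _) o
  haveI : IsLocalHom f.toRingHom := ⟨fun o ho => by
    haveI : IsLocalHom (Ideal.Quotient.mk (maximalIdeal O ^ (0 + 1))) := by
      haveI : Nontrivial (O ⧸ maximalIdeal O ^ (0 + 1)) := Ideal.Quotient.nontrivial_iff.2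
        (by simpa using (maximalIdeal.isMaximal O).ne_top)
      exact IsLocalHom.of_surjective _ Ideal.Quotient.mk_surjective
    have h := ho.map (χ 0)
    rw [AlgHom.toRingHom_eq_coe, RingHom.coe_coe, hχf] at h
    exact h.of_map⟩
  let J : Ideal L := (maximalIdeal O).map f.toRingHom
  have hJ : J ≤ maximalIdeal L := Ideal.map_le_iff_le_comap.2 fun x hx => map_nonunit f.toRingHom x hx
  have hΛJ : (maximalIdeal (AdicCompletion (maximalIdeal R) R)).map
      ((algebraMap (AdicCompletion (maximalIdeal R) R ⊗[R0] P) L).comp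
        Algebra.TensorProduct.includeLeftRingHom) ≤ J := by
    rw [AdicCompletion.maximalIdeal_eq_map, Ideal.map_map, Ideal.map_le_iff_le_comap]
    intro m hm
    rw [← IsLocalization.AtPrime.map_eq_maximalIdeal 𝔰 R] at hm
    refine (Ideal.map_le_iff_le_comap.2 ?_ : 𝔰.map (algebraMap R0 R) ≤ _) hm
    intro s hs
    have h0 : algebraMap R0 O s ∈ maximalIdeal O := hι (by
      rw [← ι.commutes s]
      exact Ideal.mem_map_of_mem _ ((IsLocalization.AtPrime.to_map_mem_maximal_iff R 𝔰 s).2 hs))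
    have h1 := Ideal.mem_map_of_mem f.toRingHom h0
    rw [AlgHom.toRingHom_eq_coe, RingHom.coe_coe, AlgHom.commutes,
      IsScalarTower.algebraMap_apply R0 (AdicCompletion (maximalIdeal R) R ⊗[R0] P) L,
      Algebra.TensorProduct.algebraMap_apply, IsScalarTower.algebraMap_apply R0 R (AdicCompletion (maximalIdeal R) R)] at h1
    exact h1
  have hred : ∀ x, ∃ a : O, algebraMap (AdicCompletion (maximalIdeal R) R ⊗[R0] P) L x - f a ∈ J := fun x => by
    obtain ⟨s, hs, c, ⟨p, rfl⟩, h⟩ := exists_dense 𝔰 R P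
      (Algebra.TensorProduct.includeRight : P →ₐ[R0] AdicCompletion (maximalIdeal R) R ⊗[R0] P).toRingHom.range
      (fun r => ⟨algebraMap R0 P r, by simp [← Algebra.TensorProduct.algebraMap_apply]⟩) (fun p => ⟨p, rfl⟩) x
    obtain ⟨u, hu'⟩ := (hunit ⟨s, hs⟩)
    have h1 := hΛJ (by rw [← Ideal.map_map]; exact Ideal.mem_map_of_mem (algebraMap _ L) h)
    refine ⟨(↑u⁻¹ : O) * algebraMap P O p, ?_⟩
    have h2 := Ideal.mul_mem_left J (f (↑u⁻¹ : O)) h1
    rwa [map_sub, mul_sub, map_mul (algebraMap _ L), ← Algebra.TensorProduct.algebraMap_apply,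
      ← IsScalarTower.algebraMap_apply, ← f.commutes, ← hu', ← mul_assoc, ← map_mul f,
      Units.inv_mul, map_one, one_mul, AlgHom.toRingHom_eq_coe, RingHom.coe_coe,
      Algebra.TensorProduct.includeRight_apply, ← hf, ← map_mul f] at h2
  have hsurj1 : ∀ z : L, ∃ a : O, z - f a ∈ J := fun z => by
    obtain ⟨x, t, rfl⟩ := IsLocalization.exists_mk'_eq 𝔭'.primeCompl z
    obtain ⟨a, ha⟩ := hred x
    obtain ⟨b, hb⟩ := hred t
    have hb' : IsUnit b := by
      by_contra h
      have h1 := add_mem (hJ hb) (hJ (Ideal.mem_map_of_mem f.toRingHom ((mem_maximalIdeal b).2 h)))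
      rw [AlgHom.toRingHom_eq_coe, RingHom.coe_coe, sub_add_cancel] at h1
      exact (mem_maximalIdeal _).1 h1 (IsLocalization.map_units L t)
    obtain ⟨b, rfl⟩ := hb'
    refine ⟨a * ↑b⁻¹, (Ideal.unit_mul_mem_iff_mem _ (IsLocalization.map_units L t)).1 ?_⟩
    rw [mul_sub, IsLocalization.mk'_spec']
    convert sub_mem ha (Ideal.mul_mem_left _ (f (a * ↑b⁻¹)) hb) using 1
    have hab : f (a * ↑b⁻¹) * f ↑b = f a := by rw [← map_mul, Units.inv_mul_cancel_right]
    linear_combination -hab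
  have hmax : J = maximalIdeal L := le_antisymm hJ fun z hz => by
    obtain ⟨a, ha⟩ := hsurj1 z
    have h1 : f a ∈ maximalIdeal L := by simpa using sub_mem hz (hJ ha)
    have h2 : a ∈ maximalIdeal O := (mem_maximalIdeal a).2 fun h => (mem_maximalIdeal _).1 h1 (h.map f)
    simpa using add_mem ha (Ideal.mem_map_of_mem f.toRingHom h2)
  refine RigPts.adicCompletion_algEquiv f (maximalIdeal O) (maximalIdeal L) (fun n => ?_) (fun n b hb => ?_) fun n z => ?_
  · rw [← Ideal.map_le_iff_le_comap, Ideal.map_pow]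
    exact Ideal.pow_right_mono (hmax ▸ le_rfl) n
  · cases n with
    | zero => simp
    | succ n =>
      rw [← hmax, ← Ideal.map_pow] at hb
      have h1 := Ideal.mem_map_of_mem (χ n) hb
      rw [Ideal.map_map, show (χ n).comp f.toRingHom = Ideal.Quotient.mk _ from RingHom.ext (hχf n),
        Ideal.map_quotient_self, Ideal.mem_bot, hχf] at h1
      exact Ideal.Quotient.eq_zero_iff_mem.1 h1
  · letI := f.toRingHom.toAlgebra
    obtain ⟨c, hc⟩ := Popescu.exists_sub_mem_pow_of_surjective (maximalIdeal O) (C' := L) (fun z => by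
      obtain ⟨a, ha⟩ := hsurj1 z
      exact ⟨a, ha⟩) n z
    refine ⟨c, ?_⟩
    rw [Ideal.map_pow, RingHom.algebraMap_toAlgebra, show (maximalIdeal O).map f.toRingHom = _ from hmax] at hc
    simpa using neg_mem hc

end Groth.Agent.PopDesc
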