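import Groth.Agent.Popescu.SchemeNbhd
import Mathlib

/-!
Charts of a fibre product with an affine scheme, and residue field extensions of morphisms of spectra.
-/

set_option autoImplicit false
set_option linter.style.haveILetI false
set_option backward.isDefEq.respectTransparency false

universe u

open AlgebraicGeometry CategoryTheory Limits TensorProduct

namespace Groth.Agent.PopDesc

variable {Y T : Scheme.{u}} (q : Y ⟶ T) {VT : T.Opens} (hVT : IsAffineOpen VT) {WY : Y.Opens} (hWY : IsAffineOpen WY)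
  (hle : WY ≤ q ⁻¹ᵁ VT)

/-- The chart of a fibre product of a morphism with an affine scheme over an affine open. -/
theorem exists_chart (Λ : Type u) [CommRing Λ] [Algebra Γ(T, VT) Λ] [Algebra Γ(T, VT) Γ(Y, WY)]
    (halg : algebraMap Γ(T, VT) Γ(Y, WY) = (q.appLE VT WY hle).hom)
    (g : Spec (CommRingCat.of Λ) ⟶ T) (hg : g = Spec.map (CommRingCat.ofHom (algebraMap Γ(T, VT) Λ)) ≫ hVT.fromSpec) :
    ∃ j : Spec (CommRingCat.of (Λ ⊗[Γ(T, VT)] Γ(Y, WY))) ⟶ pullback q g, IsOpenImmersion j ∧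
      j ≫ pullback.fst q g = Spec.map (CommRingCat.ofHom (Algebra.TensorProduct.includeRight :
        Γ(Y, WY) →ₐ[Γ(T, VT)] Λ ⊗[Γ(T, VT)] Γ(Y, WY)).toRingHom) ≫ hWY.fromSpec ∧
      j ≫ pullback.snd q g = Spec.map (CommRingCat.ofHom Algebra.TensorProduct.includeLeftRingHom) ∧
      ∀ z : ↑(pullback q g), (pullback.fst q g) z ∈ WY → ∃ u, j u = z := by
  have h1 := (isPullback_SpecMap_of_isPushout _ _ _ _
    (CommRingCat.isPushout_tensorProduct Γ(T, VT) Λ Γ(Y, WY))).flip
  have e1 : Spec.map (CommRingCat.ofHom (algebraMap Γ(T, VT) Γ(Y, WY))) ≫ hVT.fromSpec = hWY.fromSpec ≫ q := by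
    rw [halg, CommRingCat.ofHom_hom, IsAffineOpen.SpecMap_appLE_fromSpec]
  let r := Spec.map (CommRingCat.ofHom (Algebra.TensorProduct.includeRight :
        Γ(Y, WY) →ₐ[Γ(T, VT)] Λ ⊗[Γ(T, VT)] Γ(Y, WY)).toRingHom)
  have h2 : IsPullback r (Spec.map (CommRingCat.ofHom Algebra.TensorProduct.includeLeftRingHom))
      (hWY.fromSpec ≫ q) g := by
    rw [← e1, hg]
    exact IsPullback.of_isLimit (PullbackCone.isLimitOfCompMono _ _ hVT.fromSpec h1.cone h1.isLimit)
  let j : Spec (CommRingCat.of (Λ ⊗[Γ(T, VT)] Γ(Y, WY))) ⟶ pullback q g :=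
    pullback.lift (r ≫ hWY.fromSpec) (Spec.map (CommRingCat.ofHom Algebra.TensorProduct.includeLeftRingHom))
      ((Category.assoc _ _ _).trans h2.w)
  have hj1 : j ≫ pullback.fst q g = r ≫ hWY.fromSpec := pullback.lift_fst _ _ _
  have hj2 : j ≫ pullback.snd q g = Spec.map (CommRingCat.ofHom Algebra.TensorProduct.includeLeftRingHom) :=
    pullback.lift_snd _ _ _
  have h3 : IsPullback j r (pullback.fst q g) hWY.fromSpec := by
    refine IsPullback.of_right ?_ hj1 (IsPullback.of_hasPullback q g).flip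
    rw [hj2]
    exact h2.flip
  refine ⟨j, MorphismProperty.of_isPullback (P := @IsOpenImmersion) h3.flip inferInstance, hj1, hj2, fun z hz => ?_⟩
  obtain ⟨w, hw⟩ := (by rw [hWY.range_fromSpec]; exact hz : pullback.fst q g z ∈ Set.range hWY.fromSpec)
  obtain ⟨u, hu, -⟩ := Scheme.exists_preimage_of_isPullback h3 z w hw.symm
  exact ⟨u, hu⟩

/-- A trivial residue extension criterion for morphisms from affine schemes. -/
theorem residueFieldMap_bijective {A B : CommRingCat.{u}} (δ : A ⟶ B) {Z : Scheme.{u}} (j : Spec A ⟶ Z)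
    [IsOpenImmersion j] (w : Spec B) (h : ∀ z : B, ∃ c s : A, δ s ∉ w.asIdeal ∧ δ s * z - δ c ∈ w.asIdeal) :
    Function.Bijective ((Spec.map δ ≫ j).residueFieldMap w) := by
  rw [Scheme.residueFieldMap_comp, ConcreteCategory.coe_comp]
  refine Function.Bijective.comp ?_ (ConcreteCategory.bijective_of_isIso _)
  refine ⟨((Spec.map δ).residueFieldMap w).hom.injective, fun r => ?_⟩
  obtain ⟨z, hz⟩ := Scheme.residue_surjective (Spec B) w r
  letI : Algebra B ((Spec B).presheaf.stalk w) := (StructureSheaf.toStalk B w).hom.toAlgebra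
  haveI hloc : IsLocalization.AtPrime ((Spec B).presheaf.stalk w) w.asIdeal :=
    StructureSheaf.IsLocalization.to_stalk (R := B) w
  obtain ⟨evA, hevA⟩ : ∃ evA : A →+* (Spec A).residueField (Spec.map δ w), ∀ a,
      evA a = ((Spec A).residue _).hom ((StructureSheaf.toStalk A (Spec.map δ w)).hom a) :=
    ⟨((Spec A).residue _).hom.comp (StructureSheaf.toStalk A (Spec.map δ w)).hom, fun _ => rfl⟩
  obtain ⟨evB, hevB⟩ : ∃ evB : B →+* (Spec B).residueField w, ∀ b,
      evB b = ((Spec B).residue w).hom (algebraMap B ((Spec B).presheaf.stalk w) b) :=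
    ⟨((Spec B).residue w).hom.comp (algebraMap B _), fun _ => rfl⟩
  have hev : ∀ a, ((Spec.map δ).residueFieldMap w).hom (evA a) = evB (δ a) := fun a => by
    rw [hevA, hevB]
    refine (ConcreteCategory.congr_hom (Scheme.residue_residueFieldMap (Spec.map δ) w)
      (StructureSheaf.toStalk A (Spec.map δ w) a)).trans ?_
    exact congrArg ((Spec B).residue w).hom
      (stalkMap_toStalk_apply δ w a)
  have hzero : ∀ b, evB b = 0 ↔ b ∈ w.asIdeal := fun b => by
    rw [hevB]
    exact (IsLocalRing.residue_eq_zero_iff _).trans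
      (IsLocalization.AtPrime.to_map_mem_maximal_iff ((Spec B).presheaf.stalk w) w.asIdeal b)
  have hval : ∀ b, ∃ r, ((Spec.map δ).residueFieldMap w).hom r = evB b := fun b => by
    obtain ⟨c, s, hs, hcs⟩ := h b
    refine ⟨evA c / evA s, ?_⟩
    rw [map_div₀, hev, hev, div_eq_iff (fun h0 => hs ((hzero _).1 h0)), ← sub_eq_zero, ← map_mul, ← map_sub,
      hzero, ← neg_sub, mul_comm]
    exact neg_mem hcs
  obtain ⟨x, t, hxt⟩ := IsLocalization.exists_mk'_eq (M := w.asIdeal.primeCompl) z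
  obtain ⟨rx, hrx⟩ := hval x
  obtain ⟨rt, hrt⟩ := hval (t : B)
  refine ⟨rx / rt, (map_div₀ ((Spec.map δ).residueFieldMap w).hom _ _).trans ?_⟩
  rw [hrx, hrt, div_eq_iff (fun h0 => t.2 ((hzero _).1 h0)), hevB, hevB, ← hz, ← hxt,
    ← IsLocalization.mk'_spec ((Spec B).presheaf.stalk w) x t]
  exact map_mul _ _ _

end Groth.Agent.PopDesc
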