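import Groth.Agent.S9421
import Mathlib

/-!
Étaleness of a map of base changes descends to a finitely generated stage.
-/

set_option autoImplicit false
set_option linter.style.haveILetI false
set_option backward.isDefEq.respectTransparency false

universe u

open TensorProduct

namespace Groth.Agent.PopDesc

variable {C X Y : Type u} [CommRing C] [CommRing X] [CommRing Y] [Algebra C X] [Algebra C Y] [Algebra X Y]
  [IsScalarTower C X Y] (T : Type u) [CommRing T] [Algebra C T]

/-- The induced map of base changes is étale iff the base change in `X`-algebra form is. -/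
theorem et_iff :
    (Algebra.TensorProduct.map (AlgHom.id C T) (IsScalarTower.toAlgHom C X Y)).toRingHom.Etale ↔
      Algebra.Etale (X ⊗[C] T) ((X ⊗[C] T) ⊗[X] Y) := by
  let e₁ : (X ⊗[C] T) ≃+* (T ⊗[C] X) := (Algebra.TensorProduct.comm C X T).toRingEquiv
  let e₂ : ((X ⊗[C] T) ⊗[X] Y) ≃+* (T ⊗[C] Y) :=
    ((Algebra.TensorProduct.comm X (X ⊗[C] T) Y).toRingEquiv.trans
      (Algebra.TensorProduct.cancelBaseChange C X X Y T).toRingEquiv).trans
      (Algebra.TensorProduct.comm C Y T).toRingEquiv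
  have h : (Algebra.TensorProduct.map (AlgHom.id C T) (IsScalarTower.toAlgHom C X Y)).toRingHom.comp e₁.toRingHom =
      e₂.toRingHom.comp (algebraMap (X ⊗[C] T) ((X ⊗[C] T) ⊗[X] Y)) := by
    refine RingHom.ext fun z => ?_
    induction z using TensorProduct.induction_on with
    | zero => simp
    | add a b ha hb => simp only [map_add, ha, hb]
    | tmul x t => simp [e₁, e₂, Algebra.TensorProduct.algebraMap_apply, ← Algebra.algebraMap_eq_smul_one]
  rw [← RingHom.etale_algebraMap]
  refine ⟨fun H => ?_, fun H => ?_⟩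
  · have h1 := RingHom.Etale.respectsIso.1 _ e₂.symm (RingHom.Etale.respectsIso.2 _ e₁ H)
    rw [h, ← RingHom.comp_assoc] at h1
    simpa using h1
  · have h1 := RingHom.Etale.respectsIso.2 _ e₁.symm (RingHom.Etale.respectsIso.1 _ e₂ H)
    rw [← h, RingHom.comp_assoc] at h1
    simpa using h1

/-- Étaleness of induced maps of base changes is stable under further base change. -/
theorem et_mono (T' : Type u) [CommRing T'] [Algebra C T'] (g : T →ₐ[C] T')
    (h : (Algebra.TensorProduct.map (AlgHom.id C T) (IsScalarTower.toAlgHom C X Y)).toRingHom.Etale) :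
    (Algebra.TensorProduct.map (AlgHom.id C T') (IsScalarTower.toAlgHom C X Y)).toRingHom.Etale := by
  rw [et_iff] at h ⊢
  letI : Algebra (X ⊗[C] T) (X ⊗[C] T') := (Algebra.TensorProduct.map (AlgHom.id X X) g).toRingHom.toAlgebra
  haveI : IsScalarTower X (X ⊗[C] T) (X ⊗[C] T') :=
    IsScalarTower.of_algebraMap_eq fun x => ((Algebra.TensorProduct.map (AlgHom.id X X) g).commutes x).symm
  haveI := h
  exact Algebra.Etale.of_equiv
    (Algebra.TensorProduct.cancelBaseChange X (X ⊗[C] T) (X ⊗[C] T') (X ⊗[C] T') Y)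

/-- Étaleness over a ring descends to a finitely generated subalgebra, uniformly. -/
theorem etale_stage (C Λ : Type u) [CommRing C] [CommRing Λ] [Algebra C Λ] (X Y : Type u) [CommRing X] [CommRing Y]
    [Algebra C X] [Algebra C Y] [Algebra.FiniteType C X] [Algebra.FinitePresentation C Y] (a : X →ₐ[C] Y)
    (h : (Algebra.TensorProduct.map (AlgHom.id C Λ) a).toRingHom.Etale) :
    ∃ C' : Subalgebra C Λ, C'.FG ∧ ∀ (T : Type u) [CommRing T] [Algebra C T], (C' →ₐ[C] T) →
      (Algebra.TensorProduct.map (AlgHom.id C T) a).toRingHom.Etale := by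
  letI : Algebra X Y := a.toRingHom.toAlgebra
  haveI : IsScalarTower C X Y := IsScalarTower.of_algebraMap_eq fun c => (a.commutes c).symm
  have ha : a = IsScalarTower.toAlgHom C X Y := AlgHom.ext fun _ => rfl
  haveI : Algebra.FinitePresentation X Y := Algebra.FinitePresentation.of_restrict_scalars_finitePresentation C X Y
  rw [ha] at h ⊢
  let ι := {S : Subalgebra C Λ // S.FG}
  haveI : IsDirected ι (· ≤ ·) := ⟨fun a b => ⟨⟨a.1 ⊔ b.1, a.2.sup b.2⟩,
    (le_sup_left : a.1 ≤ a.1 ⊔ b.1), (le_sup_right : b.1 ≤ a.1 ⊔ b.1)⟩⟩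
  haveI : Nonempty ι := ⟨⟨⊥, Subalgebra.fg_bot⟩⟩
  obtain ⟨i, hi⟩ := Groth.Agent.S9421.result (ι := ι) C (fun i => ↥i.1) (fun i j hij => Subalgebra.inclusion hij)
    Λ (fun i => i.1.val) (fun i j hij => rfl)
    (fun x => ⟨⟨Algebra.adjoin C {x}, by simpa using Subalgebra.fg_adjoin_finset {x}⟩,
      ⟨x, Algebra.self_mem_adjoin_singleton C x⟩, rfl⟩)
    (fun i x hx => ⟨i, le_rfl, Subtype.ext hx⟩) X Y ((et_iff Λ).1 h)
  exact ⟨i.1, i.2, fun T _ _ g => et_mono (↥i.1) T g ((et_iff ↥i.1).2 hi)⟩

end Groth.Agent.PopDesc
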