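import Groth.Agent.PopDesc.Stage
import Groth.Agent.PopDesc.EtStage
import Mathlib

/-!
A pair of étale maps over a union of subalgebras descends to a finitely generated stage.
-/

set_option autoImplicit false
set_option linter.style.haveILetI false
set_option backward.isDefEq.respectTransparency false

universe u

open TensorProduct

namespace Groth.Agent.PopDesc

/-- Comparison of the induced map of base changes with any map having the same values. -/
theorem et_transfer {k C P Y T Z : Type u} [CommRing k] [CommRing C] [CommRing P] [CommRing Y] [CommRing T]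
    [CommRing Z] [Algebra k C] [Algebra k P] [Algebra C Y] [Algebra k T] [Algebra C T] [IsScalarTower k C T]
    (aX : C ⊗[k] P →ₐ[C] Y) (e : T ⊗[C] Y ≃+* Z) (h : T ⊗[k] P →+* Z)
    (h1 : ∀ t, h (t ⊗ₜ 1) = e (t ⊗ₜ 1)) (h2 : ∀ p, h (1 ⊗ₜ p) = e (1 ⊗ₜ aX (1 ⊗ₜ p))) :
    h.Etale ↔ (Algebra.TensorProduct.map (AlgHom.id C T) aX).toRingHom.Etale := by
  let c : T ⊗[C] (C ⊗[k] P) ≃+* T ⊗[k] P := (Algebra.TensorProduct.cancelBaseChange k C C T P).toRingEquiv
  have hc : h = e.toRingHom.comp ((Algebra.TensorProduct.map (AlgHom.id C T) aX).toRingHom.comp c.symm.toRingHom) := by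
    refine RingHom.ext fun z => ?_
    induction z using TensorProduct.induction_on with
    | zero => simp only [map_zero]
    | add a b ha hb => simp only [map_add, ha, hb]
    | tmul t p =>
      rw [show t ⊗ₜ[k] p = (t ⊗ₜ 1) * (1 ⊗ₜ p) by rw [Algebra.TensorProduct.tmul_mul_tmul, mul_one, one_mul],
        map_mul, map_mul, h1, h2]
      simp [c, ← Algebra.TensorProduct.one_def]
  refine ⟨fun H => ?_, fun H => ?_⟩
  · have H' := RingHom.Etale.respectsIso.2 _ c (RingHom.Etale.respectsIso.1 _ e.symm H)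
    rw [hc] at H'
    convert H' using 1
    refine RingHom.ext fun z => ?_
    simp
  · rw [hc]
    exact RingHom.Etale.respectsIso.1 _ e (RingHom.Etale.respectsIso.2 _ c.symm H)

/-- Base change in two steps. -/
theorem base_change_data {C₁ C Λ W W' : Type u} [CommRing C₁] [CommRing C] [CommRing Λ] [CommRing W] [CommRing W']
    [Algebra C₁ C] [Algebra C₁ Λ] [Algebra C Λ] [IsScalarTower C₁ C Λ] [Algebra C₁ W] [Algebra Λ W']
    (e : Λ ⊗[C₁] W ≃ₐ[Λ] W') :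
    ∃ eY : Λ ⊗[C] (C ⊗[C₁] W) ≃+* W', (∀ l, eY (l ⊗ₜ 1) = algebraMap Λ W' l) ∧
      ∀ y, eY (1 ⊗ₜ y) = e (Algebra.TensorProduct.map (IsScalarTower.toAlgHom C₁ C Λ) (AlgHom.id C₁ W) y) := by
  refine ⟨(Algebra.TensorProduct.cancelBaseChange C₁ C C Λ W).toRingEquiv.trans e.toRingEquiv, fun l => ?_, fun y => ?_⟩
  · rw [← e.commutes]
    simp [Algebra.TensorProduct.one_def]
  · induction y using TensorProduct.induction_on with
    | zero => simp
    | add u v hu hv => simp only [TensorProduct.tmul_add, map_add, hu, hv]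
    | tmul c w => simp [Algebra.smul_def]

set_option maxHeartbeats 1000000 in
/-- Maps from a stage whose base changes to the union are étale are étale after enlarging the stage. -/
theorem descent_step (R0 Λ : Type u) [CommRing R0] [IsNoetherianRing R0] [CommRing Λ] [Algebra R0 Λ]
    (P : Type u) [CommRing P] [Algebra R0 P] [Algebra.FiniteType R0 P]
    (B0 : Type u) [CommRing B0] [Algebra B0 Λ]
    (D : Type u) [CommRing D] [Algebra B0 D] [Algebra.FiniteType B0 D]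
    (C : Type u) [CommRing C] [Algebra R0 C] [Algebra.FiniteType R0 C] [Algebra C Λ] [IsScalarTower R0 C Λ]
    (σ₂ : B0 →+* C) (hσ : ∀ x, algebraMap C Λ (σ₂ x) = algebraMap B0 Λ x)
    (Y : Type u) [CommRing Y] [Algebra C Y] [Algebra.FinitePresentation C Y]
    (W' : Type u) [CommRing W'] [Algebra Λ W'] (eY : Λ ⊗[C] Y ≃+* W') (heY : ∀ l, eY (l ⊗ₜ 1) = algebraMap Λ W' l)
    (a : P →+* W') (b : D →+* W') (a₂ : P →+* Y) (b₂ : D →+* Y)
    (hea : ∀ p, eY (1 ⊗ₜ a₂ p) = a p) (heb : ∀ d, eY (1 ⊗ₜ b₂ d) = b d)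
    (ha₂ : ∀ r, a₂ (algebraMap R0 P r) = algebraMap C Y (algebraMap R0 C r))
    (hb₂ : ∀ x, b₂ (algebraMap B0 D x) = algebraMap C Y (σ₂ x))
    (hA : ∀ h : Λ ⊗[R0] P →+* W', (∀ l, h (l ⊗ₜ 1) = algebraMap Λ W' l) → (∀ p, h (1 ⊗ₜ p) = a p) → h.Etale)
    (hB : ∀ h : Λ ⊗[B0] D →+* W', (∀ l, h (l ⊗ₜ 1) = algebraMap Λ W' l) →
      (∀ d, h (1 ⊗ₜ d) = b d) → h.Etale) :
    ∃ (C : Type u) (_ : CommRing C) (_ : Algebra R0 C) (π : C →ₐ[R0] Λ) (σ0 : B0 →+* C) (W : Type u) (_ : CommRing W)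
      (_ : Algebra C W) (a0 : P →+* W) (b0 : D →+* W) (Φ : W →+* W'),
      Algebra.FinitePresentation R0 C ∧ (∀ x, π (σ0 x) = algebraMap B0 Λ x) ∧ (∀ c, Φ (algebraMap C W c) = algebraMap Λ W' (π c)) ∧
      (∀ p, Φ (a0 p) = a p) ∧ (∀ d, Φ (b0 d) = b d) ∧
      (∀ r, a0 (algebraMap R0 P r) = algebraMap C W (algebraMap R0 C r)) ∧
      (∀ x, b0 (algebraMap B0 D x) = algebraMap C W (σ0 x)) ∧
      ∀ (T : Type u) [CommRing T] [Algebra C T] [Algebra R0 T] [IsScalarTower R0 C T],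
        (∀ h : T ⊗[R0] P →+* T ⊗[C] W, (∀ t, h (t ⊗ₜ 1) = t ⊗ₜ 1) → (∀ p, h (1 ⊗ₜ p) = 1 ⊗ₜ a0 p) → h.Etale) ∧
        ∀ [Algebra B0 T], (∀ x, algebraMap B0 T x = algebraMap C T (σ0 x)) →
          ∀ h : T ⊗[B0] D →+* T ⊗[C] W, (∀ t, h (t ⊗ₜ 1) = t ⊗ₜ 1) → (∀ d, h (1 ⊗ₜ d) = 1 ⊗ₜ b0 d) → h.Etale := by
  classical
  letI : Algebra B0 C := σ₂.toAlgebra
  haveI : IsScalarTower B0 C Λ := IsScalarTower.of_algebraMap_eq fun x => (hσ x).symm
  letI : Algebra R0 Y := ((algebraMap C Y).comp (algebraMap R0 C)).toAlgebra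
  haveI : IsScalarTower R0 C Y := IsScalarTower.of_algebraMap_eq' rfl
  letI : Algebra B0 Y := ((algebraMap C Y).comp σ₂).toAlgebra
  haveI : IsScalarTower B0 C Y := IsScalarTower.of_algebraMap_eq' rfl
  let aX : C ⊗[R0] P →ₐ[C] Y :=
    Algebra.TensorProduct.lift (Algebra.ofId _ _) { a₂ with commutes' := ha₂ } fun _ _ => Commute.all _ _
  let bX : C ⊗[B0] D →ₐ[C] Y :=
    Algebra.TensorProduct.lift (Algebra.ofId _ _) { b₂ with commutes' := hb₂ } fun _ _ => Commute.all _ _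
  have haX : ∀ p, aX (1 ⊗ₜ p) = a₂ p := fun p => by simp [aX]
  have hbX : ∀ d, bX (1 ⊗ₜ d) = b₂ d := fun d => by simp [bX]
  let hP : Λ ⊗[R0] P →+* W' := eY.toRingHom.comp ((Algebra.TensorProduct.map (AlgHom.id C Λ) aX).toRingHom.comp
    (Algebra.TensorProduct.cancelBaseChange R0 C C Λ P).symm.toRingEquiv.toRingHom)
  have hP1 : ∀ l, hP (l ⊗ₜ 1) = eY (l ⊗ₜ 1) := fun l => by simp [hP, haX]
  have hP2 : ∀ p, hP (1 ⊗ₜ p) = eY (1 ⊗ₜ aX (1 ⊗ₜ p)) := fun p => by simp [hP]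
  let hD : Λ ⊗[B0] D →+* W' := eY.toRingHom.comp ((Algebra.TensorProduct.map (AlgHom.id C Λ) bX).toRingHom.comp
    (Algebra.TensorProduct.cancelBaseChange B0 C C Λ D).symm.toRingEquiv.toRingHom)
  have hD1 : ∀ l, hD (l ⊗ₜ 1) = eY (l ⊗ₜ 1) := fun l => by simp [hD, hbX]
  have hD2 : ∀ d, hD (1 ⊗ₜ d) = eY (1 ⊗ₜ bX (1 ⊗ₜ d)) := fun d => by simp [hD]
  have hetA := (et_transfer aX eY hP hP1 hP2).1
    (hA hP (fun l => by rw [hP1, heY]) fun p => by rw [hP2, haX, hea])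
  have hetB := (et_transfer bX eY hD hD1 hD2).1
    (hB hD (fun l => by rw [hD1, heY]) fun d => by rw [hD2, hbX, heb])
  obtain ⟨SA, hSA, hSA'⟩ := etale_stage C Λ _ _ aX hetA
  obtain ⟨SB, hSB, hSB'⟩ := etale_stage C Λ _ _ bX hetB
  obtain ⟨S, hS, hAS, hBS⟩ : ∃ S : Subalgebra C Λ, S.FG ∧ SA ≤ S ∧ SB ≤ S :=
    ⟨SA ⊔ SB, hSA.sup hSB, le_sup_left, le_sup_right⟩
  haveI : Algebra.FiniteType C S := Algebra.FiniteType.mk (S.fg_top.2 hS)
  haveI : Algebra.FiniteType R0 S := Algebra.FiniteType.trans (inferInstance : Algebra.FiniteType R0 C) inferInstance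
  haveI : Algebra.FinitePresentation R0 S := Algebra.FinitePresentation.of_finiteType.1 inferInstance
  let j : Y →ₐ[C] ↥S ⊗[C] Y := Algebra.TensorProduct.includeRight
  let Φ : ↥S ⊗[C] Y →+* W' := eY.toRingHom.comp (Algebra.TensorProduct.map S.val (AlgHom.id C Y)).toRingHom
  refine ⟨S, inferInstance, inferInstance, S.val.restrictScalars R0, (algebraMap C S).comp σ₂, ↥S ⊗[C] Y,
    inferInstance, inferInstance, j.toRingHom.comp a₂, j.toRingHom.comp b₂, Φ, inferInstance, fun x => hσ x,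
    fun c => ?_, fun p => ?_, fun d => ?_, fun r => ?_, fun x => ?_, ?_⟩
  · rw [← heY]; simp [Φ]
  · rw [← hea]; simp [Φ, j]
  · rw [← heb]; simp [Φ, j]
  · rw [RingHom.comp_apply, ha₂, AlgHom.toRingHom_eq_coe, RingHom.coe_coe, AlgHom.commutes,
      IsScalarTower.algebraMap_apply R0 C S, ← IsScalarTower.algebraMap_apply C S (↥S ⊗[C] Y)]
  · rw [RingHom.comp_apply, hb₂, AlgHom.toRingHom_eq_coe, RingHom.coe_coe, AlgHom.commutes, RingHom.comp_apply,
      ← IsScalarTower.algebraMap_apply C S (↥S ⊗[C] Y)]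
  intro T _ _ _ _
  letI : Algebra C T := ((algebraMap S T).comp (algebraMap C S)).toAlgebra
  haveI : IsScalarTower C S T := IsScalarTower.of_algebraMap_eq' rfl
  haveI : IsScalarTower R0 C T := IsScalarTower.of_algebraMap_eq fun r => by
    rw [RingHom.algebraMap_toAlgebra, RingHom.comp_apply, ← IsScalarTower.algebraMap_apply R0 C S,
      ← IsScalarTower.algebraMap_apply]
  obtain ⟨eT, heT1, heT2⟩ := base_change_data (C := ↥S) (AlgEquiv.refl : T ⊗[C] Y ≃ₐ[T] _)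
  have hj : ∀ y, eT.symm (1 ⊗ₜ y) = 1 ⊗ₜ j y := fun y => eT.injective (by
    rw [eT.apply_symm_apply, heT2]; simp [j])
  have h1T : ∀ t, eT.symm (t ⊗ₜ 1) = t ⊗ₜ 1 := fun t => eT.injective (by
    rw [eT.apply_symm_apply, heT1]; rfl)
  refine ⟨fun h h1 h2 => ?_, fun hT h h1 h2 => ?_⟩
  · refine (et_transfer aX eT.symm h (fun t => by rw [h1, h1T]) fun p => by rw [h2, haX, hj]; rfl).2 ?_
    exact hSA' T ((IsScalarTower.toAlgHom C S T).comp (Subalgebra.inclusion hAS))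
  · haveI : IsScalarTower B0 C T := IsScalarTower.of_algebraMap_eq fun x => by rw [hT]; rfl
    refine (et_transfer bX eT.symm h (fun t => by rw [h1, h1T]) fun d => by rw [h2, hbX, hj]; rfl).2 ?_
    exact hSB' T ((IsScalarTower.toAlgHom C S T).comp (Subalgebra.inclusion hBS))

set_option maxHeartbeats 1000000 in
/-- A common étale algebra over `Λ` of `Λ ⊗ P` and `Λ ⊗ D` descends to a stage `C` with both maps étale
after every further base change. -/
theorem exists_descent (R0 Λ : Type u) [CommRing R0] [IsNoetherianRing R0] [CommRing Λ] [Algebra R0 Λ]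
    (P : Type u) [CommRing P] [Algebra R0 P] [Algebra.FiniteType R0 P]
    (B0 : Type u) [CommRing B0] [Algebra.FiniteType ℤ B0] [Algebra B0 Λ]
    (D : Type u) [CommRing D] [Algebra B0 D] [Algebra.FiniteType B0 D]
    (W' : Type u) [CommRing W'] [Algebra Λ W'] [Algebra.FinitePresentation Λ W'] (a : P →+* W') (b : D →+* W')
    (ha : ∀ r, a (algebraMap R0 P r) = algebraMap Λ W' (algebraMap R0 Λ r))
    (hb : ∀ x, b (algebraMap B0 D x) = algebraMap Λ W' (algebraMap B0 Λ x))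
    (hA : ∀ h : Λ ⊗[R0] P →+* W', (∀ l, h (l ⊗ₜ 1) = algebraMap Λ W' l) → (∀ p, h (1 ⊗ₜ p) = a p) → h.Etale)
    (hB : ∀ h : Λ ⊗[B0] D →+* W', (∀ l, h (l ⊗ₜ 1) = algebraMap Λ W' l) →
      (∀ d, h (1 ⊗ₜ d) = b d) → h.Etale) :
    ∃ (C : Type u) (_ : CommRing C) (_ : Algebra R0 C) (π : C →ₐ[R0] Λ) (σ0 : B0 →+* C) (W : Type u) (_ : CommRing W)
      (_ : Algebra C W) (a0 : P →+* W) (b0 : D →+* W) (Φ : W →+* W'),
      Algebra.FinitePresentation R0 C ∧ (∀ x, π (σ0 x) = algebraMap B0 Λ x) ∧ (∀ c, Φ (algebraMap C W c) = algebraMap Λ W' (π c)) ∧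
      (∀ p, Φ (a0 p) = a p) ∧ (∀ d, Φ (b0 d) = b d) ∧
      (∀ r, a0 (algebraMap R0 P r) = algebraMap C W (algebraMap R0 C r)) ∧
      (∀ x, b0 (algebraMap B0 D x) = algebraMap C W (σ0 x)) ∧
      ∀ (T : Type u) [CommRing T] [Algebra C T] [Algebra R0 T] [IsScalarTower R0 C T],
        (∀ h : T ⊗[R0] P →+* T ⊗[C] W, (∀ t, h (t ⊗ₜ 1) = t ⊗ₜ 1) → (∀ p, h (1 ⊗ₜ p) = 1 ⊗ₜ a0 p) → h.Etale) ∧
        ∀ [Algebra B0 T], (∀ x, algebraMap B0 T x = algebraMap C T (σ0 x)) →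
          ∀ h : T ⊗[B0] D →+* T ⊗[C] W, (∀ t, h (t ⊗ₜ 1) = t ⊗ₜ 1) → (∀ d, h (1 ⊗ₜ d) = 1 ⊗ₜ b0 d) → h.Etale := by
  classical
  haveI : IsNoetherianRing B0 := Algebra.FiniteType.isNoetherianRing ℤ B0
  haveI : Algebra.FinitePresentation R0 P := Algebra.FinitePresentation.of_finiteType.1 inferInstance
  haveI : Algebra.FinitePresentation B0 D := Algebra.FinitePresentation.of_finiteType.1 inferInstance
  obtain ⟨s, hs⟩ := (inferInstance : Algebra.FiniteType ℤ B0).out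
  obtain ⟨C₁, W₁, _, _, hC₁, hsub, hW₁, ⟨eW⟩⟩ := exists_model_fp R0 Λ W' (s.image (algebraMap B0 Λ))
  haveI := hW₁
  have hσ : ∀ x, algebraMap B0 Λ x ∈ C₁.toSubring := fun x => by
    have hx : x ∈ Algebra.adjoin ℤ (s : Set B0) := hs ▸ trivial
    refine Algebra.adjoin_induction (fun y hy => hsub (by simpa using ⟨y, hy, rfl⟩)) (fun n => ?_)
      (fun y z _ _ hy hz => by rw [map_add]; exact add_mem hy hz)
      (fun y z _ _ hy hz => by rw [map_mul]; exact mul_mem hy hz) hx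
    rw [eq_intCast, map_intCast]
    exact intCast_mem _ n
  let σ₁ : B0 →+* C₁ := (algebraMap B0 Λ).codRestrict C₁.toSubring hσ
  obtain ⟨Ca, a₁, hCa, ha₁, ha₁'⟩ := hom_stage C₁ Λ W₁ (algebraMap R0 C₁) (eW.symm.toRingEquiv.toRingHom.comp a)
    (fun r => by
      simp only [RingHom.comp_apply, ha, AlgEquiv.toRingEquiv_eq_coe, RingEquiv.toRingHom_eq_coe, RingHom.coe_coe,
        AlgEquiv.coe_ringEquiv, AlgEquiv.commutes]
      rfl)
  obtain ⟨Cb, b₁, hCb, hb₁, hb₁'⟩ := hom_stage C₁ Λ W₁ σ₁ (eW.symm.toRingEquiv.toRingHom.comp b)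
    (fun x => by
      simp only [RingHom.comp_apply, hb, AlgEquiv.toRingEquiv_eq_coe, RingEquiv.toRingHom_eq_coe, RingHom.coe_coe,
        AlgEquiv.coe_ringEquiv, AlgEquiv.commutes]
      rfl)
  obtain ⟨C, hC, hab⟩ : ∃ C : Subalgebra C₁ Λ, C.FG ∧ Ca ≤ C ∧ Cb ≤ C :=
    ⟨Ca ⊔ Cb, hCa.sup hCb, le_sup_left, le_sup_right⟩
  haveI : Algebra.FiniteType R0 C₁ := Algebra.FiniteType.mk (C₁.fg_top.2 hC₁)
  haveI : Algebra.FiniteType C₁ C := Algebra.FiniteType.mk (C.fg_top.2 hC)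
  haveI : Algebra.FiniteType R0 C := Algebra.FiniteType.trans (inferInstance : Algebra.FiniteType R0 C₁) inferInstance
  let σ₂ : B0 →+* C := (algebraMap C₁ C).comp σ₁
  letI : Algebra B0 C := σ₂.toAlgebra
  haveI : IsScalarTower B0 C Λ := IsScalarTower.of_algebraMap_eq fun _ => rfl
  let ja := Algebra.TensorProduct.map (Subalgebra.inclusion hab.1) (AlgHom.id C₁ W₁)
  let jb := Algebra.TensorProduct.map (Subalgebra.inclusion hab.2) (AlgHom.id C₁ W₁)
  let a₂ : P →ₐ[R0] ↥C ⊗[C₁] W₁ :=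
    { ja.toRingHom.comp a₁ with
      commutes' := fun r => by
        change ja (a₁ (algebraMap R0 P r)) = _
        rw [ha₁, AlgHom.commutes]
        rfl }
  let b₂ : D →ₐ[B0] ↥C ⊗[C₁] W₁ :=
    { jb.toRingHom.comp b₁ with
      commutes' := fun x => by
        change jb (b₁ (algebraMap B0 D x)) = _
        rw [hb₁, AlgHom.commutes]
        rfl }
  obtain ⟨eY, heYl, heY⟩ := base_change_data (C := ↥C) eW
  have hcomp : ∀ (U : Subalgebra C₁ Λ) (hU : U ≤ C) (y : ↥U ⊗[C₁] W₁),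
      Algebra.TensorProduct.map C.val (AlgHom.id C₁ W₁) (Algebra.TensorProduct.map (Subalgebra.inclusion hU) (AlgHom.id C₁ W₁) y) =
        Algebra.TensorProduct.map U.val (AlgHom.id C₁ W₁) y := fun U hU y => by
    induction y using TensorProduct.induction_on with
    | zero => simp
    | add u v hu hv => simp only [map_add, hu, hv]
    | tmul c w => rfl
  refine descent_step R0 Λ P B0 D C σ₂ (fun _ => rfl) (↥C ⊗[C₁] W₁) W' eY heYl a b a₂.toRingHom b₂.toRingHom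
    (fun p => ?_) (fun d => ?_) a₂.commutes b₂.commutes hA hB
  · rw [heY]
    change eW (Algebra.TensorProduct.map C.val _ (ja (a₁ p))) = _
    rw [hcomp _ hab.1, ha₁']
    simp
  · rw [heY]
    change eW (Algebra.TensorProduct.map C.val _ (jb (b₁ d))) = _
    rw [hcomp _ hab.2, hb₁']
    simp

end Groth.Agent.PopDesc
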