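import Groth.Agent.Popescu.CommonAlg
import Groth.Agent.Popescu.EtaleNbhd
import Groth.Agent.Popescu.LocalNbhd
import Groth.Agent.PopDesc.BaseCompletion
import Groth.Agent.PopDesc.Descend
import Mathlib

/-!
Common étale neighbourhood of two points whose completions are isomorphic over the completion of the base.
-/

set_option autoImplicit false
set_option linter.style.haveILetI false
set_option backward.isDefEq.respectTransparency false

universe u

open IsLocalRing TensorProduct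

namespace Groth.Agent.PopDesc

/-- Local maps out of a completion are determined on the ring. -/
theorem completion_ext {R Z : Type u} [CommRing R] [IsLocalRing R] [IsNoetherianRing R] [CommRing Z] [IsLocalRing Z]
    [IsHausdorff (maximalIdeal Z) Z] (f g : AdicCompletion (maximalIdeal R) R →+* Z)
    (hf : (maximalIdeal (AdicCompletion (maximalIdeal R) R)).map f ≤ maximalIdeal Z)
    (hg : (maximalIdeal (AdicCompletion (maximalIdeal R) R)).map g ≤ maximalIdeal Z)
    (h : ∀ r, f (algebraMap R _ r) = g (algebraMap R _ r)) : f = g := by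
  refine RingHom.ext fun l => sub_eq_zero.1 (IsHausdorff.haus ‹IsHausdorff (maximalIdeal Z) Z› _ fun n => ?_)
  rw [SModEq.zero, Ideal.smul_top_eq_map, Submodule.restrictScalars_mem, Algebra.algebraMap_self, Ideal.map_id]
  obtain ⟨x, hx⟩ := Ideal.Quotient.mk_surjective (AdicCompletion.evalₐ (maximalIdeal R) n l)
  have hl : l - algebraMap R _ x ∈ maximalIdeal (AdicCompletion (maximalIdeal R) R) ^ n := by
    have h1 : l - algebraMap R _ x ∈ RingHom.ker (AdicCompletion.evalₐ (maximalIdeal R) n).toRingHom := by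
      rw [RingHom.mem_ker, AlgHom.toRingHom_eq_coe, RingHom.coe_coe, map_sub, FormalStalk.evalₐ_algebraMap, hx,
        sub_self]
    rw [FormalStalk.ker_evalₐ (maximalIdeal R) (IsNoetherian.noetherian _) n] at h1
    rwa [AdicCompletion.maximalIdeal_eq_map]
  have h2 : ∀ u : AdicCompletion (maximalIdeal R) R →+* Z,
      (maximalIdeal (AdicCompletion (maximalIdeal R) R)).map u ≤ maximalIdeal Z →
      u l - u (algebraMap R _ x) ∈ maximalIdeal Z ^ n := fun u hu => by
    rw [← map_sub]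
    refine Ideal.pow_right_mono hu n ?_
    rw [← Ideal.map_pow]
    exact Ideal.mem_map_of_mem u hl
  simpa [h] using sub_mem (h2 f hf) (h2 g hg)

theorem residue_aux {X PX κ : Type u} [CommRing X] [CommRing PX] [CommRing κ] [IsDomain κ] (f : PX →+* κ) (g : X →+* κ)
    (key : ∀ x : X, ∃ u c, f u ≠ 0 ∧ f u * g x = f c)
    (frac : ∀ z : κ, ∃ c s, g s ≠ 0 ∧ g s * z = g c) (z : κ) : ∃ c s, f s ≠ 0 ∧ f s * z = f c := by
  obtain ⟨c, s, hs, hz⟩ := frac z
  obtain ⟨u₁, cC, hu₁, hC⟩ := key c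
  obtain ⟨u₂, cS, hu₂, hS⟩ := key s
  refine ⟨u₂ * cC, cS * u₁, ?_, ?_⟩
  · rw [map_mul]
    exact mul_ne_zero (hS ▸ mul_ne_zero hu₂ hs) hu₁
  · rw [map_mul, map_mul, ← hS, ← hC]
    linear_combination f u₂ * f u₁ * hz

set_option maxHeartbeats 2000000 in
/-- Two points, one over the base and one over the completion of the base, with isomorphic completions have
a common étale neighbourhood over an étale neighbourhood of the base. -/
theorem exists_nbhds (R0 : Type u) [CommRing R0] [IsNoetherianRing R0] (𝔰 : Ideal R0) [𝔰.IsPrime]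
    (R : Type u) [CommRing R] [IsLocalRing R] [IsNoetherianRing R] [Algebra R0 R] [IsLocalization.AtPrime R 𝔰]
    (hG : CAlg.IsGRing R)
    (P : Type u) [CommRing P] [Algebra R0 P] [Algebra.FiniteType R0 P] (𝔭 : Ideal P) [𝔭.IsPrime]
    (h𝔭 : 𝔭.comap (algebraMap R0 P) = 𝔰) (O : Type u) [CommRing O] [IsLocalRing O] [Algebra P O]
    [IsLocalization.AtPrime O 𝔭] [Algebra R0 O] [IsScalarTower R0 P O]
    (B0 : Type u) [CommRing B0] [Algebra.FiniteType ℤ B0] [Algebra B0 (AdicCompletion (maximalIdeal R) R)]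
    (D : Type u) [CommRing D] [Algebra B0 D] [Algebra.FiniteType B0 D]
    (Q : Ideal (AdicCompletion (maximalIdeal R) R ⊗[B0] D)) [Q.IsPrime]
    (hQ : ∀ l, l ⊗ₜ (1 : D) ∈ Q ↔ ¬ IsUnit l)
    (A : Type u) [CommRing A] [IsLocalRing A] [Algebra (AdicCompletion (maximalIdeal R) R ⊗[B0] D) A]
    [IsLocalization.AtPrime A Q]
    (φ : AdicCompletion (maximalIdeal O) O ≃+* AdicCompletion (maximalIdeal A) A)
    (hφ : ∀ r : R0, φ (algebraMap O _ (algebraMap R0 O r)) = algebraMap A _ (algebraMap _ A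
      (algebraMap R0 (AdicCompletion (maximalIdeal R) R) r ⊗ₜ[B0] (1 : D)))) :
    ∃ (R' : Type u) (_ : CommRing R') (_ : Algebra R0 R') (_ : Algebra B0 R') (v : Ideal R') (W : Type u)
      (_ : CommRing W) (aW : P →+* W) (bW : R' ⊗[B0] D →+* W) (w : Ideal W),
      Algebra.Etale R0 R' ∧ v.IsPrime ∧ v.comap (algebraMap R0 R') = 𝔰 ∧
      (∀ z : R', ∃ c s : R0, s ∉ 𝔰 ∧ algebraMap R0 R' s * z - algebraMap R0 R' c ∈ v) ∧
      v.comap (algebraMap B0 R') =
        (maximalIdeal (AdicCompletion (maximalIdeal R) R)).comap (algebraMap B0 _) ∧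
      aW.Etale ∧ bW.Etale ∧ (∀ r, aW (algebraMap R0 P r) = bW (algebraMap R0 R' r ⊗ₜ 1)) ∧
      w.IsPrime ∧ w.comap aW = 𝔭 ∧ (∀ d, bW (1 ⊗ₜ d) ∈ w ↔ (1 : AdicCompletion (maximalIdeal R) R) ⊗ₜ d ∈ Q) ∧
      (∀ t, bW (t ⊗ₜ 1) ∈ w ↔ t ∈ v) ∧
      (∀ z : W, ∃ c s : P, s ∉ 𝔭 ∧ aW s * z - aW c ∈ w) ∧
      ∀ z : W, ∃ c s : R' ⊗[B0] D, bW s ∉ w ∧ bW s * z - bW c ∈ w := by
  haveI := hG.1
  let Λ := AdicCompletion (maximalIdeal R) R
  haveI : IsNoetherianRing Λ := FormalStalk.isNoetherianRing (maximalIdeal R)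
  obtain ⟨𝔭', h𝔭'prime, hright, hleft, hL⟩ := exists_point_completion 𝔰 R P 𝔭 h𝔭 O
  haveI := h𝔭'prime
  suffices key : ∀ (L : Type u) [CommRing L] [IsLocalRing L] [Algebra (Λ ⊗[R0] P) L] [IsLocalization.AtPrime L 𝔭'],
      ∃ (W' : Type u) (_ : CommRing W') (_ : Algebra (Λ ⊗[R0] P) W') (_ : Algebra.Etale (Λ ⊗[R0] P) W')
        (β : Λ ⊗[B0] D →+* W') (w' : Ideal W'), β.Etale ∧
        (∀ l, β (l ⊗ₜ 1) = algebraMap (Λ ⊗[R0] P) W' (l ⊗ₜ 1)) ∧ w'.IsPrime ∧
        w'.comap (algebraMap (Λ ⊗[R0] P) W') = 𝔭' ∧ w'.comap β = Q ∧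
        (∀ z : W', ∃ c s, s ∉ 𝔭' ∧ algebraMap (Λ ⊗[R0] P) W' s * z - algebraMap (Λ ⊗[R0] P) W' c ∈ w') ∧
        ∀ z : W', ∃ c s, s ∉ Q ∧ β s * z - β c ∈ w' by
    obtain ⟨W', _, _, _, β, w', hβ, hβl, hw', hwP, hwQ, hresP, hresQ⟩ := key (Localization.AtPrime 𝔭')
    letI : Algebra Λ W' := ((algebraMap (Λ ⊗[R0] P) W').comp Algebra.TensorProduct.includeLeftRingHom).toAlgebra
    haveI : IsScalarTower Λ (Λ ⊗[R0] P) W' := IsScalarTower.of_algebraMap_eq' (R := Λ) (S := Λ ⊗[R0] P) rfl
    haveI : Algebra.FinitePresentation R0 P := Algebra.FinitePresentation.of_finiteType.1 inferInstance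
    haveI : Algebra.FinitePresentation Λ W' := Algebra.FinitePresentation.trans Λ (Λ ⊗[R0] P) W'
    obtain ⟨C, _, _, π, σ0, W, _, _, a0, b0, Φ, hC, hπσ, hΦC, hΦa, hΦb, ha0, hb0, huniv⟩ :=
      exists_descent R0 Λ P B0 D W'
        ((algebraMap (Λ ⊗[R0] P) W').comp (Algebra.TensorProduct.includeRight : P →ₐ[R0] Λ ⊗[R0] P).toRingHom)
        (β.comp (Algebra.TensorProduct.includeRight : D →ₐ[B0] Λ ⊗[B0] D).toRingHom)
        (fun r => by
          rw [RingHom.comp_apply, AlgHom.toRingHom_eq_coe, RingHom.coe_coe, AlgHom.commutes,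
            Algebra.TensorProduct.algebraMap_apply]
          rfl)
        (fun x => by
          rw [RingHom.comp_apply, AlgHom.toRingHom_eq_coe, RingHom.coe_coe, AlgHom.commutes,
            Algebra.TensorProduct.algebraMap_apply, hβl]
          rfl)
        (fun h h1 h2 => by
          have : h = algebraMap (Λ ⊗[R0] P) W' := by
            refine RingHom.ext fun z => ?_
            induction z using TensorProduct.induction_on with
            | zero => simp
            | add u v hu hv => simp only [map_add, hu, hv]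
            | tmul l p =>
              rw [show l ⊗ₜ[R0] p = (l ⊗ₜ 1) * (1 ⊗ₜ p) by simp, map_mul, map_mul, h1, h2]
              rfl
          exact this ▸ RingHom.etale_algebraMap.2 inferInstance)
        (fun h h1 h2 => by
          have : h = β := by
            refine RingHom.ext fun z => ?_
            induction z using TensorProduct.induction_on with
            | zero => exact (map_zero h).trans (map_zero β).symm
            | add u v hu hv => exact (map_add h u v).trans (by rw [hu, hv]; exact (map_add β u v).symm)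
            | tmul l d =>
              rw [show l ⊗ₜ[B0] d = (l ⊗ₜ 1) * (1 ⊗ₜ d) by simp]
              refine (map_mul h _ _).trans ?_
              rw [h1, h2, map_mul β, hβl]
              rfl
          exact this ▸ hβ)
    -- the closed point of the base
    let Qk := R ⧸ maximalIdeal R
    letI : Field Qk := Ideal.Quotient.field (maximalIdeal R)
    let e : Λ →ₐ[R0] Qk := (AdicCompletion.evalOneₐ (maximalIdeal R)).restrictScalars R0
    have he : Function.Surjective e := AdicCompletion.evalOneₐ_surjective (maximalIdeal R)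
    have hkere : RingHom.ker e.toRingHom = maximalIdeal Λ :=
      eq_maximalIdeal (RingHom.ker_isMaximal_of_surjective e.toRingHom he)
    obtain ⟨E, _, _, hE, w₀, ψ, hψ⟩ := Popescu.exists_etale_point
      (Popescu.isRegularHom_completion_atPrime 𝔰 R hG) e
      (Popescu.lifts_atPrime 𝔰 R Qk Ideal.Quotient.mk_surjective) C hC π
    have hψC : ∀ c, ψ (w₀ c) = e (π c) := AlgHom.congr_fun hψ
    -- the residue field at the closed point
    let qW := Ideal.Quotient.mk w'
    have hΛw : maximalIdeal Λ ≤ RingHom.ker (qW.comp (algebraMap Λ W')) := fun l hl => by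
      rw [RingHom.mem_ker, RingHom.comp_apply, Ideal.Quotient.eq_zero_iff_mem]
      exact hwP.ge (hleft.ge hl)
    let ε : Qk →+* W' ⧸ w' := RingHom.liftOfSurjective e.toRingHom he ⟨qW.comp (algebraMap Λ W'), hkere ▸ hΛw⟩
    have hε : ∀ l, ε (e l) = qW (algebraMap Λ W' l) := fun l => RingHom.liftOfRightInverse_comp_apply _ _ _ _ l
    have hεinj : Function.Injective ε := RingHom.injective ε
    letI : Algebra B0 E := (w₀.toRingHom.comp σ0).toAlgebra
    letI : Algebra C E := w₀.toRingHom.toAlgebra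
    haveI : IsScalarTower R0 C E := IsScalarTower.of_algebraMap_eq fun r => (w₀.commutes r).symm
    haveI : IsScalarTower B0 E (E ⊗[C] W) := IsScalarTower.of_algebraMap_eq fun _ => rfl
    let μE : E →+* W' ⧸ w' := ε.comp ψ.toRingHom
    letI : Algebra C (W' ⧸ w') := (qW.comp (Φ.comp (algebraMap C W))).toAlgebra
    let μ : E ⊗[C] W →+* W' ⧸ w' := (Algebra.TensorProduct.lift
      ({ μE with
        commutes' := fun c => by
          change ε (ψ (w₀ c)) = qW (Φ (algebraMap C W c))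
          rw [hψC, hε, hΦC] } : E →ₐ[C] W' ⧸ w')
      ({ qW.comp Φ with commutes' := fun c => rfl } : W →ₐ[C] W' ⧸ w') fun _ _ => Commute.all _ _).toRingHom
    have hμ1 : ∀ t, μ (t ⊗ₜ 1) = ε (ψ t) := fun t => by simp [μ, μE]
    have hμ2 : ∀ x, μ (1 ⊗ₜ x) = qW (Φ x) := fun x => by simp [μ, μE]
    haveI : (RingHom.ker μ).IsPrime := RingHom.ker_isPrime μ
    have hcomm : ∀ c : C, (1 : E) ⊗ₜ[C] algebraMap C W c = algebraMap C E c ⊗ₜ 1 := fun c => by
      rw [Algebra.algebraMap_eq_smul_one, Algebra.algebraMap_eq_smul_one, TensorProduct.smul_tmul]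
    let hP : E ⊗[R0] P →ₐ[E] E ⊗[C] W := Algebra.TensorProduct.lift (Algebra.ofId E _)
      ({ Algebra.TensorProduct.includeRight.toRingHom.comp a0 with
        commutes' := fun r => by
          change (1 : E) ⊗ₜ[C] a0 (algebraMap R0 P r) = _
          rw [ha0, hcomm, ← IsScalarTower.algebraMap_apply]
          rfl } : P →ₐ[R0] E ⊗[C] W) fun _ _ => Commute.all _ _
    let hD : E ⊗[B0] D →ₐ[E] E ⊗[C] W := Algebra.TensorProduct.lift (Algebra.ofId E _)
      ({ Algebra.TensorProduct.includeRight.toRingHom.comp b0 with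
        commutes' := fun x => by
          change (1 : E) ⊗ₜ[C] b0 (algebraMap B0 D x) = _
          rw [hb0, hcomm]
          rfl } : D →ₐ[B0] E ⊗[C] W) fun _ _ => Commute.all _ _
    have hP1 : ∀ t, hP (t ⊗ₜ 1) = t ⊗ₜ 1 := fun t => by simp [hP]
    have hP2 : ∀ p, hP (1 ⊗ₜ p) = 1 ⊗ₜ a0 p := fun p => by simp [hP]
    have hD1 : ∀ t, hD (t ⊗ₜ 1) = t ⊗ₜ 1 := fun t => by simp [hD]
    have hD2 : ∀ d, hD (1 ⊗ₜ d) = 1 ⊗ₜ b0 d := fun d => by simp [hD]
    have hμP : ∀ p, μ (hP (1 ⊗ₜ p)) = qW (algebraMap (Λ ⊗[R0] P) W' (1 ⊗ₜ p)) := fun p => by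
      rw [hP2, hμ2, hΦa]; rfl
    have hμD : ∀ d, μ (hD (1 ⊗ₜ d)) = qW (β (1 ⊗ₜ d)) := fun d => by
      rw [hD2, hμ2, hΦb]; rfl
    have hμR : ∀ r, μ (algebraMap R0 E r ⊗ₜ 1) = qW (algebraMap Λ W' (algebraMap R0 Λ r)) := fun r => by
      rw [hμ1, AlgHom.commutes, ← e.commutes, hε]
    have hunit : ∀ s : R0, s ∉ 𝔰 → qW (algebraMap Λ W' (algebraMap R0 Λ s)) ≠ 0 := fun s hs h => by
      rw [← hε] at h
      refine hs ((IsLocalization.AtPrime.to_map_mem_maximal_iff R 𝔰 s).1 (Ideal.Quotient.eq_zero_iff_mem.1 ?_))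
      rw [← map_zero ε] at h
      rw [← hεinj h, AlgHom.commutes]
      rfl
    refine ⟨E, inferInstance, inferInstance, inferInstance, RingHom.ker ψ.toRingHom, E ⊗[C] W, inferInstance,
      hP.toRingHom.comp (Algebra.TensorProduct.includeRight : P →ₐ[R0] E ⊗[R0] P).toRingHom, hD.toRingHom,
      RingHom.ker μ, hE, RingHom.ker_isPrime _, ?_, fun z => ?_, ?_, ?_, ?_, fun r => ?_, inferInstance, ?_,
      fun d => ?_, fun t => ?_, ?_, ?_⟩
    · ext r
      rw [Ideal.mem_comap, RingHom.mem_ker, AlgHom.toRingHom_eq_coe, RingHom.coe_coe, AlgHom.commutes,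
        IsScalarTower.algebraMap_apply R0 R Qk]
      exact Ideal.Quotient.eq_zero_iff_mem.trans (IsLocalization.AtPrime.to_map_mem_maximal_iff R 𝔰 r)
    · obtain ⟨x, hx⟩ := Ideal.Quotient.mk_surjective (ψ z)
      obtain ⟨c, s, rfl⟩ := IsLocalization.exists_mk'_eq 𝔰.primeCompl x
      refine ⟨c, s, s.2, ?_⟩
      rw [RingHom.mem_ker, AlgHom.toRingHom_eq_coe, RingHom.coe_coe, map_sub, map_mul, AlgHom.commutes,
        AlgHom.commutes, ← hx, IsScalarTower.algebraMap_apply R0 R Qk, IsScalarTower.algebraMap_apply R0 R Qk,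
        Ideal.Quotient.algebraMap_eq, ← map_mul, IsLocalization.mk'_spec', sub_self]
    · ext x
      rw [Ideal.mem_comap, Ideal.mem_comap, RingHom.mem_ker, ← hkere, RingHom.mem_ker]
      change ψ (w₀ (σ0 x)) = 0 ↔ e (algebraMap B0 Λ x) = 0
      rw [hψC, hπσ]
    · refine RingHom.Etale.stableUnderComposition _ _ ?_ ((huniv E).1 hP.toRingHom hP1 hP2)
      have h1 := RingHom.etale_algebraMap.2 (inferInstance : Algebra.Etale P (P ⊗[R0] E))
      exact RingHom.Etale.respectsIso.1 _ (Algebra.TensorProduct.comm R0 P E).toRingEquiv h1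
    · exact (huniv E).2 (fun _ => rfl) hD.toRingHom hD1 hD2
    · change hP ((1 : E) ⊗ₜ algebraMap R0 P r) = hD (algebraMap R0 E r ⊗ₜ 1)
      rw [Algebra.algebraMap_eq_smul_one, ← TensorProduct.smul_tmul, ← Algebra.algebraMap_eq_smul_one, hP1, hD1]
    · rw [← hright, ← hwP]
      ext p
      rw [Ideal.mem_comap, RingHom.mem_ker, Ideal.mem_comap, Ideal.mem_comap, ← Ideal.Quotient.eq_zero_iff_mem]
      exact Iff.of_eq (congrArg (· = 0) (hμP p))
    · rw [RingHom.mem_ker, ← hwQ, Ideal.mem_comap, ← Ideal.Quotient.eq_zero_iff_mem]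
      exact Iff.of_eq (congrArg (· = 0) (hμD d))
    · rw [RingHom.mem_ker, RingHom.mem_ker]
      change μ (hD (t ⊗ₜ 1)) = 0 ↔ ψ t = 0
      rw [hD1, hμ1, map_eq_zero_iff ε hεinj]
    · have hk := residue_aux (μ.comp (hP.toRingHom.comp
          (Algebra.TensorProduct.includeRight : P →ₐ[R0] E ⊗[R0] P).toRingHom))
        (qW.comp (algebraMap (Λ ⊗[R0] P) W')) (fun x => ?_) (fun z => ?_)
      · intro z
        obtain ⟨c, s, hs, h⟩ := hk (μ z)
        refine ⟨c, s, fun hs' => hs ?_, ?_⟩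
        · rw [RingHom.comp_apply]
          have h1 : (1 : Λ) ⊗ₜ[R0] s ∈ 𝔭' := hright.ge hs'
          rw [← hwP] at h1
          exact (hμP s).trans (Ideal.Quotient.eq_zero_iff_mem.2 h1)
        · rw [RingHom.mem_ker, map_sub, map_mul, sub_eq_zero]
          exact h
      · let F := μ.comp (hP.toRingHom.comp (Algebra.TensorProduct.includeRight : P →ₐ[R0] E ⊗[R0] P).toRingHom)
        let G := qW.comp (algebraMap (Λ ⊗[R0] P) W')
        have hFR : ∀ r, F (algebraMap R0 P r) = G (algebraMap R0 Λ r ⊗ₜ 1) := fun r => by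
          change μ (hP ((1 : E) ⊗ₜ algebraMap R0 P r)) = _
          rw [Algebra.algebraMap_eq_smul_one, ← TensorProduct.smul_tmul, ← Algebra.algebraMap_eq_smul_one, hP1, hμR]
          rfl
        obtain ⟨s, hs, c, ⟨c', hc'⟩, h⟩ := exists_dense 𝔰 R P (F.range.comap G)
          (fun r => ⟨algebraMap R0 P r, hFR r⟩) (fun p => ⟨p, hμP p⟩) x
        refine ⟨algebraMap R0 P s, c', ?_, ?_⟩
        · rw [show F (algebraMap R0 P s) = _ from hFR s]
          exact hunit s hs
        · have h2 : Ideal.map (Algebra.TensorProduct.includeLeftRingHom : Λ →+* Λ ⊗[R0] P) (maximalIdeal Λ) ≤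
              RingHom.ker G := Ideal.map_le_iff_le_comap.2 fun l hl => hΛw hl
          have h3 := h2 h
          rw [RingHom.mem_ker, map_sub, map_mul, sub_eq_zero] at h3
          exact (congrArg (· * _) (hFR s)).trans (h3.trans hc'.symm)
      · obtain ⟨z', rfl⟩ := Ideal.Quotient.mk_surjective z
        obtain ⟨c, s, hs, h⟩ := hresP z'
        refine ⟨c, s, fun h' => hs (hwP.le (Ideal.mem_comap.2 (Ideal.Quotient.eq_zero_iff_mem.1 h' :))), ?_⟩
        rw [← sub_eq_zero]
        exact (by rw [map_sub, map_mul]; rfl : _ = qW (_ * z' - _)).trans (Ideal.Quotient.eq_zero_iff_mem.2 h)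
    · have hk := residue_aux (μ.comp hD.toRingHom) (qW.comp β) (fun x => ?_) (fun z => ?_)
      · intro z
        obtain ⟨c, s, hs, h⟩ := hk (μ z)
        refine ⟨c, s, fun hs' => hs hs', ?_⟩
        rw [RingHom.mem_ker, map_sub, map_mul, sub_eq_zero]
        exact h
      · let F := μ.comp hD.toRingHom
        let G := qW.comp β
        have hFR : ∀ r, F (algebraMap R0 E r ⊗ₜ 1) = G (algebraMap R0 Λ r ⊗ₜ 1) := fun r => by
          change μ (hD (algebraMap R0 E r ⊗ₜ 1)) = qW (β (algebraMap R0 Λ r ⊗ₜ 1))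
          rw [hD1, hμR, hβl]
          rfl
        obtain ⟨s, hs, c, ⟨c', hc'⟩, h⟩ := exists_dense 𝔰 R D (F.range.comap G)
          (fun r => ⟨_, hFR r⟩) (fun d => ⟨1 ⊗ₜ d, hμD d⟩) x
        refine ⟨algebraMap R0 E s ⊗ₜ 1, c', ?_, ?_⟩
        · rw [show F (algebraMap R0 E s ⊗ₜ 1) = _ from hFR s]
          change qW (β (algebraMap R0 Λ s ⊗ₜ 1)) ≠ 0
          rw [hβl]
          exact hunit s hs
        · have h2 : Ideal.map (Algebra.TensorProduct.includeLeftRingHom : Λ →+* Λ ⊗[B0] D) (maximalIdeal Λ) ≤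
              RingHom.ker G := Ideal.map_le_iff_le_comap.2 fun l hl => by
            change qW (β (l ⊗ₜ 1)) = 0
            rw [hβl]
            exact hΛw hl
          have h3 := h2 h
          rw [RingHom.mem_ker, map_sub, map_mul, sub_eq_zero] at h3
          exact (congrArg (· * _) (hFR s)).trans (h3.trans hc'.symm)
      · obtain ⟨z', rfl⟩ := Ideal.Quotient.mk_surjective z
        obtain ⟨c, s, hs, h⟩ := hresQ z'
        refine ⟨c, s, fun h' => hs (hwQ.le (Ideal.mem_comap.2 (Ideal.Quotient.eq_zero_iff_mem.1 h' :))), ?_⟩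
        rw [← sub_eq_zero]
        exact (by rw [map_sub, map_mul]; rfl : _ = qW (_ * z' - _)).trans (Ideal.Quotient.eq_zero_iff_mem.2 h)
  intro L _ _ _ _
  haveI : Algebra.FiniteType Λ (Λ ⊗[R0] P) := inferInstance
  haveI : IsNoetherianRing (Λ ⊗[R0] P) := Algebra.FiniteType.isNoetherianRing Λ _
  haveI : IsNoetherianRing (Λ ⊗[B0] D) := Algebra.FiniteType.isNoetherianRing Λ _
  haveI : IsNoetherianRing L := IsLocalization.isNoetherianRing 𝔭'.primeCompl L inferInstance
  haveI : IsNoetherianRing A := IsLocalization.isNoetherianRing Q.primeCompl A inferInstance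
  letI : Algebra Λ L := ((algebraMap (Λ ⊗[R0] P) L).comp Algebra.TensorProduct.includeLeftRingHom).toAlgebra
  haveI : IsScalarTower Λ (Λ ⊗[R0] P) L := IsScalarTower.of_algebraMap_eq' (R := Λ) (S := Λ ⊗[R0] P) rfl
  letI : Algebra Λ A := ((algebraMap (Λ ⊗[B0] D) A).comp Algebra.TensorProduct.includeLeftRingHom).toAlgebra
  haveI : IsScalarTower Λ (Λ ⊗[B0] D) A := IsScalarTower.of_algebraMap_eq' (R := Λ) (S := Λ ⊗[B0] D) rfl
  letI : Algebra R0 L := ((algebraMap (Λ ⊗[R0] P) L).comp (algebraMap R0 (Λ ⊗[R0] P))).toAlgebra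
  haveI : IsScalarTower R0 (Λ ⊗[R0] P) L := IsScalarTower.of_algebraMap_eq' (R := R0) (S := Λ ⊗[R0] P) rfl
  have hGL : CAlg.IsGRing L := Easy3.isGRing_of_isLocalization 𝔭'.primeCompl L
    (GRingCpl.isGRing_of_finiteType_complete (R0 := Λ) (Λ ⊗[R0] P))
  obtain ⟨χ⟩ := hL L
  let θ : AdicCompletion (maximalIdeal A) A ≃+* AdicCompletion (maximalIdeal L) L := φ.symm.trans χ.toRingEquiv
  have hlocA : (maximalIdeal Λ).map (algebraMap Λ (AdicCompletion (maximalIdeal A) A)) ≤
      maximalIdeal (AdicCompletion (maximalIdeal A) A) := by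
    rw [IsScalarTower.algebraMap_eq Λ A (AdicCompletion (maximalIdeal A) A), ← Ideal.map_map]
    refine (Ideal.map_mono (J := maximalIdeal A) (Ideal.map_le_iff_le_comap.2 fun l hl => ?_)).trans_eq
      (AdicCompletion.maximalIdeal_eq_map).symm
    rw [Ideal.mem_comap, IsScalarTower.algebraMap_apply Λ (Λ ⊗[B0] D) A,
      IsLocalization.AtPrime.to_map_mem_maximal_iff A Q, Algebra.TensorProduct.algebraMap_apply]
    exact (hQ _).2 ((mem_maximalIdeal _).1 hl)
  have hlocL : (maximalIdeal Λ).map (algebraMap Λ (AdicCompletion (maximalIdeal L) L)) ≤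
      maximalIdeal (AdicCompletion (maximalIdeal L) L) := by
    rw [IsScalarTower.algebraMap_eq Λ L (AdicCompletion (maximalIdeal L) L), ← Ideal.map_map]
    refine (Ideal.map_mono (J := maximalIdeal L) (Ideal.map_le_iff_le_comap.2 fun l hl => ?_)).trans_eq
      (AdicCompletion.maximalIdeal_eq_map).symm
    rw [Ideal.mem_comap, IsScalarTower.algebraMap_apply Λ (Λ ⊗[R0] P) L,
      IsLocalization.AtPrime.to_map_mem_maximal_iff L 𝔭', Algebra.TensorProduct.algebraMap_apply]
    exact hleft.ge hl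
  have hagree : ∀ r : R, θ (algebraMap Λ _ (algebraMap R Λ r)) =
      algebraMap Λ (AdicCompletion (maximalIdeal L) L) (algebraMap R Λ r) := fun r =>
    RingHom.congr_fun (IsLocalization.ringHom_ext 𝔰.primeCompl (RingHom.ext fun r => by
      simp only [RingHom.comp_apply, RingEquiv.toRingHom_eq_coe, RingHom.coe_coe]
      rw [← IsScalarTower.algebraMap_apply R0 R Λ, IsScalarTower.algebraMap_apply Λ A (AdicCompletion (maximalIdeal A) A),
        IsScalarTower.algebraMap_apply Λ L (AdicCompletion (maximalIdeal L) L),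
        IsScalarTower.algebraMap_apply Λ (Λ ⊗[R0] P) L, Algebra.TensorProduct.algebraMap_apply,
        IsScalarTower.algebraMap_apply Λ (Λ ⊗[B0] D) A, Algebra.TensorProduct.algebraMap_apply,
        Algebra.algebraMap_self, RingHom.id_apply]
      change χ (φ.symm _) = _
      erw [← hφ, φ.symm_apply_apply, ← IsScalarTower.algebraMap_apply R0 O (AdicCompletion (maximalIdeal O) O),
        AlgEquiv.commutes, IsScalarTower.algebraMap_apply R0 L (AdicCompletion (maximalIdeal L) L),
        IsScalarTower.algebraMap_apply R0 (Λ ⊗[R0] P) L, Algebra.TensorProduct.algebraMap_apply]) :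
      (θ.toRingHom.comp ((algebraMap Λ _).comp (algebraMap R Λ))) = (algebraMap Λ _).comp (algebraMap R Λ)) r
  have hθ : ∀ l, θ (algebraMap Λ _ l) = algebraMap Λ (AdicCompletion (maximalIdeal L) L) l :=
    RingHom.congr_fun (completion_ext (θ.toRingHom.comp (algebraMap Λ _)) (algebraMap Λ _)
      (by
        rw [← Ideal.map_map, ← Popescu.maximalIdeal_map_ringEquiv θ]
        exact Ideal.map_mono hlocA) hlocL hagree)
  obtain ⟨W', _, _, _, β, w', hβ, hβk, hw', hwP, hwQ, hresP, hresQ⟩ :=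
    Popescu.common_nbhd_alg Λ (Λ ⊗[R0] P) 𝔭' L hGL (Λ ⊗[B0] D) Q A (AlgEquiv.ofRingEquiv (f := θ) hθ)
  exact ⟨W', inferInstance, inferInstance, inferInstance, β, w', hβ, fun l => hβk l, hw', hwP, hwQ, hresP, hresQ⟩

end Groth.Agent.PopDesc
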