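import Groth.Agent.SyntLib.Tensor
import Mathlib

/-!
Finitely presented algebras over a union of subalgebras, and maps into them, come from a finitely
generated subalgebra.
-/

set_option autoImplicit false
set_option linter.style.haveILetI false
set_option backward.isDefEq.respectTransparency false

universe u

open TensorProduct

namespace Groth.Agent.PopDesc

theorem exists_model_aux (Λ : Type u) [CommRing Λ] (W' : Type u) [CommRing W'] [Algebra Λ W'] {ι σ : Type}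
    [Finite ι] [Finite σ] (P : Algebra.Presentation Λ W' ι σ) (R₀ : Type u) [CommRing R₀] [Algebra R₀ Λ]
    [Algebra R₀ W'] [IsScalarTower R₀ Λ W'] [P.HasCoeffs R₀] :
    ∃ (W₀ : Type u) (_ : CommRing W₀) (_ : Algebra R₀ W₀),
      Algebra.FinitePresentation R₀ W₀ ∧ Nonempty (Λ ⊗[R₀] W₀ ≃ₐ[Λ] W') :=
  ⟨(P.ModelOfHasCoeffs R₀ :), inferInstance, inferInstance, inferInstance, ⟨P.tensorModelOfHasCoeffsEquiv R₀⟩⟩

theorem exists_model_fp (R0 Λ : Type u) [CommRing R0] [CommRing Λ] [Algebra R0 Λ] (W' : Type u) [CommRing W']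
    [Algebra Λ W'] [Algebra.FinitePresentation Λ W'] (s : Finset Λ) :
    ∃ (C : Subalgebra R0 Λ) (W₀ : Type u) (_ : CommRing W₀) (_ : Algebra C W₀),
      C.FG ∧ (↑s ⊆ (C : Set Λ)) ∧ Algebra.FinitePresentation C W₀ ∧ Nonempty (Λ ⊗[C] W₀ ≃ₐ[Λ] W') := by
  classical
  let P := Algebra.Presentation.ofFinitePresentation Λ W'
  obtain ⟨A₀, hA, hc, hsub⟩ : ∃ A₀ : Subalgebra R0 Λ, A₀.FG ∧ P.coeffs ⊆ (A₀ : Set Λ) ∧ ↑s ⊆ (A₀ : Set Λ) :=
    ⟨Algebra.adjoin R0 (P.coeffs ∪ ↑s), ⟨P.finite_coeffs.toFinset ∪ s, by simp⟩,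
      fun x hx => Algebra.subset_adjoin (Or.inl hx), fun x hx => Algebra.subset_adjoin (Or.inr hx)⟩
  haveI : P.HasCoeffs A₀ := ⟨fun x hx => ⟨⟨x, hc hx⟩, rfl⟩⟩
  obtain ⟨W₀, i₁, i₂, h₁, h₂⟩ := exists_model_aux Λ W' P A₀
  exact ⟨A₀, W₀, i₁, i₂, hA, hsub, h₁, h₂⟩

theorem isStageSystem_subalgebra (C Λ : Type u) [CommRing C] [CommRing Λ] [Algebra C Λ] :
    SyntLib.IsStageSystem (fun i : {S : Subalgebra C Λ // S.FG} => ↥i.1) (fun i => i.1.val) where
  lift i s := ⟨⟨i.1 ⊔ Algebra.adjoin C ↑s, i.2.sup (Subalgebra.fg_adjoin_finset s)⟩,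
    Subalgebra.inclusion le_sup_left, rfl, fun x hx =>
      ⟨⟨x, (le_sup_right : Algebra.adjoin C ↑s ≤ i.1 ⊔ _) (Algebra.subset_adjoin hx)⟩, rfl⟩⟩
  kill i s hs := ⟨i, AlgHom.id C _, AlgHom.comp_id _, fun x hx => Subtype.ext (hs x hx)⟩

/-- Maps of a finitely presented algebra into a base change come from a stage. -/
theorem hom_stage (C Λ W : Type u) [CommRing C] [CommRing Λ] [CommRing W] [Algebra C Λ] [Algebra C W]
    {k P : Type u} [CommRing k] [CommRing P] [Algebra k P] [Algebra.FinitePresentation k P] (g : k →+* C)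
    (f : P →+* Λ ⊗[C] W) (hf : ∀ x, f (algebraMap k P x) = algebraMap C (Λ ⊗[C] W) (g x)) :
    ∃ (C' : Subalgebra C Λ) (f' : P →+* C' ⊗[C] W), C'.FG ∧
      (∀ x, f' (algebraMap k P x) = algebraMap C (C' ⊗[C] W) (g x)) ∧
      ∀ p, Algebra.TensorProduct.map C'.val (AlgHom.id C W) (f' p) = f p := by
  classical
  let hs := isStageSystem_subalgebra C Λ
  letI : ∀ (U : Type u) [CommRing U] [Algebra C U], Algebra k (U ⊗[C] W) :=
    fun U _ _ => ((algebraMap C (U ⊗[C] W)).comp g).toAlgebra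
  let fk : P →ₐ[k] Λ ⊗[C] W := { f with commutes' := hf }
  let v : ∀ {U U' : Type u} [CommRing U] [CommRing U'] [Algebra C U] [Algebra C U'],
      (U →ₐ[C] U') → (U ⊗[C] W →ₐ[k] U' ⊗[C] W) := fun φ =>
    { Algebra.TensorProduct.map φ (AlgHom.id C W) with
      commutes' := fun x => (Algebra.TensorProduct.map φ (AlgHom.id C W)).commutes (g x) }
  have hv : ∀ {U U' : Type u} [CommRing U] [CommRing U'] [Algebra C U] [Algebra C U'] (φ : U →ₐ[C] U') t,
      v φ t = φ.toLinearMap.rTensor W t := fun φ t => by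
    induction t using TensorProduct.induction_on with
    | zero => simp
    | add a b ha hb => simp only [map_add, ha, hb]
    | tmul u w => rfl
  obtain ⟨n, π, hπ, G, hG⟩ := (inferInstance : Algebra.FinitePresentation k P).out
  obtain ⟨j, -, -, hj⟩ := hs.liftTensor ⟨⊥, Subalgebra.fg_bot⟩
    (Finset.univ.image fun i => fk (π (MvPolynomial.X i)))
  choose y hy using fun i => hj _ (Finset.mem_image_of_mem _ (Finset.mem_univ i))
  have hev : ∀ (q : MvPolynomial (Fin n) k), v j.1.val (MvPolynomial.aeval y q) = fk (π q) :=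
    AlgHom.congr_fun (MvPolynomial.algHom_ext fun i => by simp [hv, hy] :
      (v j.1.val).comp (MvPolynomial.aeval y) = fk.comp π)
  have key : ∀ (T : Finset (MvPolynomial (Fin n) k)), (∀ q ∈ T, π q = 0) →
      ∃ (l : {S : Subalgebra C Λ // S.FG}) (ψ : ↥j.1 →ₐ[C] ↥l.1), l.1.val.comp ψ = j.1.val ∧
        ∀ q ∈ T, v ψ (MvPolynomial.aeval y q) = 0 := by
    intro T
    induction T using Finset.induction_on with
    | empty => exact fun _ => ⟨j, AlgHom.id C _, AlgHom.comp_id _, by simp⟩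
    | insert q T _ ih =>
      intro hT
      obtain ⟨l, ψ, hψ, hl⟩ := ih fun q hq => hT q (Finset.mem_insert_of_mem hq)
      obtain ⟨m, χ, hχ, hm⟩ := hs.killTensor l (v ψ (MvPolynomial.aeval y q)) (by
        rw [hv, ← LinearMap.rTensor_comp_apply, ← AlgHom.comp_toLinearMap, hψ, ← hv, hev,
          hT q (Finset.mem_insert_self _ _), map_zero])
      refine ⟨m, χ.comp ψ, by rw [← AlgHom.comp_assoc, hχ, hψ], fun r hr => ?_⟩
      rw [hv, AlgHom.comp_toLinearMap, LinearMap.rTensor_comp_apply, ← hv ψ]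
      rcases Finset.mem_insert.1 hr with rfl | hr
      · exact hm
      · rw [hl r hr, map_zero]
  obtain ⟨l, ψ, hψ, hl⟩ := key G fun q hq => by
    have : q ∈ RingHom.ker π.toRingHom := hG ▸ Ideal.subset_span hq
    exact this
  let π₀ : MvPolynomial (Fin n) k →ₐ[k] ↥l.1 ⊗[C] W := (v ψ).comp (MvPolynomial.aeval y)
  have hker : RingHom.ker π.toRingHom ≤ RingHom.ker π₀.toRingHom := hG ▸ Ideal.span_le.2 fun q hq => hl q hq
  let f' : P →ₐ[k] ↥l.1 ⊗[C] W := AlgHom.liftOfSurjective π hπ π₀ hker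
  refine ⟨l.1, f'.toRingHom, l.2, f'.commutes, fun p => ?_⟩
  obtain ⟨q, rfl⟩ := hπ p
  have h1 : f' (π q) = π₀ q := AlgHom.liftOfSurjective_apply π hπ π₀ hker q
  change v l.1.val (f' (π q)) = fk (π q)
  rw [h1, ← hev]
  change v l.1.val (v ψ (MvPolynomial.aeval y q)) = _
  rw [hv, hv ψ, ← LinearMap.rTensor_comp_apply, ← AlgHom.comp_toLinearMap, hψ, hv]

end Groth.Agent.PopDesc
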